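import Mathlib
import Cfsg.Agent.H264.FKS.Final
import Cfsg.Agent.H899.Cyc.IGap

/-!
# Cyclic primes, same characteristic (helper358, for S3679 and S3561): the hypothesis `HSN`

`HSN p f e g c`: all primes `s ∤ f` with `q = p^f` of order `e` modulo `s`, not dividing the exponent of the field of
`g`, divide `c`.
-/

set_option autoImplicit false

namespace Cfsg.Agent.H358.Cyc

open Cfsg Cfsg.Agent.OrdDiv Cfsg.Agent.H436 Cfsg.Agent.H915.GN Cfsg.Agent.H264.GN Cfsg.Agent.H264.FKS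

universe u

variable {p f c : ℕ} {g : Grp}

/-- all primes `s ∤ f` with `q = p^f` of order `e` modulo `s`, which do not divide the exponent of the field of the
group `g`, divide `c` -/
def HSN (p f e : ℕ) (g : Grp) (c : ℕ) : Prop :=
  ∀ s, Prim (p ^ f) e s → ¬ s ∣ f → (∀ f₁, fld g = p ^ f₁ → ¬ s ∣ f₁) → s ∣ c

/-- Fermat -/
theorem prim_dvd_sub {q e s : ℕ} (h : Prim q e s) : e ∣ s - 1 := by
  have hc : Nat.Coprime q s := ((Nat.Prime.coprime_iff_not_dvd h.prime).2 h.not_dvd).symm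
  have h5 := Nat.ModEq.pow_totient hc
  rw [Nat.totient_prime h.prime] at h5
  have hq : 1 ≤ q := by
    rcases Nat.eq_zero_or_pos q with rfl | h6
    · exact absurd (dvd_zero s) h.not_dvd
    · exact h6
  exact (h.dvd_iff _).1 ((Nat.modEq_iff_dvd' (Nat.one_le_pow _ _ hq)).1 h5.symm)

theorem prim_pos {q e s : ℕ} (h : Prim q e s) : 0 < e := by
  rcases Nat.eq_zero_or_pos e with rfl | h0
  · have h1 := Nat.eq_zero_of_zero_dvd (prim_dvd_sub h)
    have := h.prime.two_le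
    omega
  · exact h0

theorem HSN.mem' {e f₁ s : ℕ} (h : HSN p f e g c) (hp : p.Prime) (hfl : fld g = p ^ f₁)
    (hs : Prim (p ^ f) e s) (hlt' : ¬ s ∣ f) (hlt : ¬ s ∣ f₁) : s ∣ c :=
  h s hs hlt' fun f₂ h2 => by
    rw [hfl] at h2
    rwa [← Nat.pow_right_injective hp.two_le h2]

theorem HSN.mem {e f₁ s : ℕ} (h : HSN p f e g c) (hp : p.Prime) (hf : 1 ≤ f) (hf₁ : 1 ≤ f₁) (hfl : fld g = p ^ f₁)
    (hs : Prim (p ^ f) e s) (hlt : f₁ < s) (hlt' : f < s) : s ∣ c :=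
  h.mem' hp hfl hs (fun hd => by
    have := Nat.le_of_dvd (by omega) hd
    omega) fun hd => by
    have := Nat.le_of_dvd (by omega) hd
    omega

theorem HSN.big {e f₁ s : ℕ} (h : HSN p f e g c) (hp : p.Prime) (hf : 1 ≤ f) (hf₁ : 1 ≤ f₁) (hfl : fld g = p ^ f₁)
    (hle : f₁ ≤ f * e) (hs : Prim p (f * e) s) : s ∣ c := by
  have h1 := lt_of_prim hs
  refine h.mem hp hf hf₁ hfl (prim_pow hf hs) (lt_of_le_of_lt hle h1) (lt_of_le_of_lt ?_ h1)
  exact Nat.le_mul_of_pos_right _ (prim_pos (prim_pow hf hs))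

/-- A Zsigmondy prime of odd order divides the order of the group. -/
theorem ex_primN {e f₁ : ℕ} (hp : p.Prime) (hf : 1 ≤ f) (hf₁ : 1 ≤ f₁) (he : 3 ≤ e) (he2 : e % 2 = 1)
    (hc : den g * c = num g) (hfl : fld g = p ^ f₁) (hff : f₁ ≤ 2 * f) (hs : HSN p f e g c) :
    ∃ s, Prim (p ^ f) e s ∧ s ∣ num g := by
  have h3 : f * 3 ≤ f * e := Nat.mul_le_mul_left _ he
  by_cases h6 : p = 2 ∧ f * e = 6
  · obtain ⟨rfl, h6⟩ := h6
    have h7 : f = 2 := by
      have : f ≤ 2 := by omega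
      interval_cases f <;> omega
    subst h7
    obtain rfl : e = 3 := by omega
    have h8 : Prim (2 ^ 2) 3 7 := by norm_num; exact prim_four_three
    refine ⟨7, h8, ?_⟩
    rw [← hc]
    exact (hs.mem hp hf hf₁ hfl h8 (by omega) (by omega)).mul_left _
  · obtain ⟨s, hs'⟩ := exists_prim hp.two_le (e := f * e) (by omega) h6
    refine ⟨s, prim_pow hf hs', ?_⟩
    rw [← hc]
    have := lt_of_prim hs'
    exact (hs.mem hp hf hf₁ hfl (prim_pow hf hs') (by omega) (by omega)).mul_left _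

theorem dvd_of_outN {S : Type u} [Group S] [Finite S] [IsSimpleGroup S] (hna : ¬ ∀ a b : S, a * b = b * a)
    (hp : p.Prime) (hn : IsNamed g S) (hch : HasChar p g) {s : ℕ} (hs : s.Prime) (h5 : 5 ≤ s)
    (hlt : ∀ f₁, fld g = p ^ f₁ → ¬ s ∣ f₁) (h : s ∣ Nat.card (Cfsg.Out S)) : s ∣ Nat.card S := by
  obtain ⟨X, f₁, h1, h2, h3⟩ := exists_lie hp hn hch
  obtain ⟨k, h4, h6, -⟩ := H364.OutLie.card_out hna h1 hn.real h2
  rw [h4] at h
  rcases hs.dvd_mul.1 h with h7 | h7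
  · rcases hs.dvd_mul.1 (h7.trans h6) with h8 | h8
    · exfalso
      have h9 : s ∣ 2 ^ 3 * 3 := h8
      rcases hs.dvd_mul.1 h9 with h10 | h10
      · have := Nat.le_of_dvd (by norm_num) (hs.dvd_of_dvd_pow h10)
        omega
      · have := Nat.le_of_dvd (by norm_num) h10
        omega
    · exact dvd_of_dd hs h5 h2 h8
  · exact absurd h7 (hlt f₁ h3)

/-- **A prime of `R`, not dividing the exponent of the field, is a prime of the socle.** -/
theorem dvd_socleN {R : Type*} [Group R] [Finite R] (S : Subgroup R) [S.Normal] [IsSimpleGroup S]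
    (hna : ¬ IsMulCommutative S) (hC : Subgroup.centralizer (S : Set R) = ⊥) (hp : p.Prime) (hn : IsNamed g S)
    (hch : HasChar p g) {s : ℕ} (hs : s.Prime) (h5 : 5 ≤ s) (hlt : ∀ f₁, fld g = p ^ f₁ → ¬ s ∣ f₁)
    (h : s ∣ Nat.card R) : s ∣ Nat.card S := by
  have h1 := h.trans (dvd_aut S hC)
  rw [← H934.OutB.card_out_mul S hna] at h1
  rcases hs.dvd_mul.1 h1 with h2 | h2
  · exact dvd_of_outN (not_comm hna) hp hn hch hs h5 hlt h2
  · exact h2

/-- the hypothesis of the theorems `cp_*` -/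
theorem HSN.of {R : Type*} [Group R] [Finite R] (S : Subgroup R) [S.Normal] [IsSimpleGroup S]
    (hna : ¬ IsMulCommutative S) (hC : Subgroup.centralizer (S : Set R) = ⊥) (hp : p.Prime) (hn : IsNamed g S)
    (hch : HasChar p g) {e : ℕ} (he : 3 ≤ e) (h : ∀ s, Prim (p ^ f) e s → ¬ s ∣ f → s ∣ Nat.card R) :
    HSN p f e g (Nat.card S) := fun s hs hsf hlt =>
  dvd_socleN S hna hC hp hn hch hs.prime (five_le_of_prim he hs) hlt (h s hs hsf)

end Cfsg.Agent.H358.Cyc
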