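import Mathlib
import Cfsg.Agent.H358.Cyc.Hsn

/-!
# Cyclic primes, same characteristic (helper358, for S3679 and S3561): the rows of `H264.FKS.CharP` with `HSN`
-/

set_option autoImplicit false

namespace Cfsg.Agent.H358.Cyc

open Cfsg.Agent.OrdDiv Cfsg.Agent.H436 Cfsg.Agent.H915.GN Cfsg.Agent.H264.GN Cfsg.Agent.H264.FKS

variable {p f c : ℕ} {g : Grp}

/-- **`T = PSL_n(q)`, `n ≥ 4`.** -/
theorem cp_psl (hp : p.Prime) (hf : 1 ≤ f) {n : ℕ} (hn : 4 ≤ n) (h42 : ¬ (n = 4 ∧ p ^ f = 2))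
    (hex1 : ¬ (p = 2 ∧ f * n = 6)) (hex2 : ¬ (p = 2 ∧ f * (n - 1) = 6)) (hg : Cond g) (hch : HasChar p g)
    (hc : den g * c = num g) (hdvd : c ∣ glN n (p ^ f)) (hs1 : HSN p f n g c) (hs2 : HSN p f (n - 1) g c) :
    g = .psl n (p ^ f) ∨ ∃ f₁, 2 * f₁ = f ∧ n % 2 = 0 ∧ g = .ominus n (p ^ f₁) := by
  obtain ⟨f₁, hf₁, hfl, hK, hY⟩ := kd_all hp hg hch hc
  have hT := td_psl hp hf hdvd
  have hfn : 1 * n ≤ f * n := Nat.mul_le_mul_right _ hf
  have hfn' : 1 * (n - 1) ≤ f * (n - 1) := Nat.mul_le_mul_right _ hf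
  have hM2 := two_le_Mg hg hch
  have hb := f1_le hp hf₁ hT hK hY hM2 (by omega)
  obtain ⟨h1, h2, h3, h4⟩ := comp hp hf hf₁ hT hK (by omega) hex1 (fun s hs => hs1.big hp hf hf₁ hfl hb hs) hY (by
    intro hp2 h6 h5
    have hf1 : f = 1 := by nlinarith
    subst hf1
    have hn5 : n = 5 := by
      rcases Nat.lt_or_ge n 5 with h | h
      · exact absurd ⟨by omega, by rw [hp2, pow_one]⟩ h42
      · omega
    subst hn5
    obtain ⟨s, hs⟩ := exists_prim hp.two_le (e := 5) (by norm_num) (by omega)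
    obtain ⟨x, hx, hx2⟩ := hK.exp hs (hs1.big hp hf hf₁ hfl hb (by rwa [one_mul]))
    have hx3 := hK.le hx
    have h7 : f₁ * x ≤ 6 := h6 ▸ Nat.mul_le_mul_left _ hx3.2
    have h8 : 0 < f₁ * x := Nat.mul_pos (by omega) (by omega)
    have h9 : f₁ * x = 5 := by omega
    have h10 : f₁ = 1 := by
      have h11 : f₁ ∣ 5 := ⟨x, h9.symm⟩
      have h12 : f₁ ∣ 6 := ⟨Mg g, h6.symm⟩
      exact Nat.dvd_one.1 (Nat.dvd_sub h12 h11)
    subst h10
    rw [one_mul] at h9 h6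
    subst h9
    have h13 := hT.pp hK.pp
    exact hex5 hg hch h6 hx (by norm_num at h13; omega))
  have hh := half n
  have hA : 2 * ag g ≤ (n - 1) * Mg g := by
    have h5 : n * (2 * ag g) ≤ n * ((n - 1) * Mg g) := by
      calc n * (2 * ag g) = 2 * (ag g * n) := by ring
        _ ≤ 2 * (n * (n - 1) / 2 * Mg g) := Nat.mul_le_mul_left _ h2
        _ = (2 * (n * (n - 1) / 2)) * Mg g := by ring
        _ = n * (n - 1) * Mg g := by rw [← hh]
        _ = n * ((n - 1) * Mg g) := by ring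
    exact Nat.le_of_mul_le_mul_left h5 (by omega)
  have hO := caseA (N := n) (ρ := n - 1) (by omega) (by omega) hg hch hA (fun x hx => hK.le hx)
    (h3 (n - 1) (by omega) hex2 fun s hs => hs2.big hp hf hf₁ hfl (f1_le' hM2 h1 (by omega)) hs)
  cases g
  case psl m q =>
    left
    obtain rfl : m = n := hO
    have hq : q = p ^ f₁ := hfl
    have h5 : f₁ * m = f * m := h1
    rw [hq, Nat.eq_of_mul_eq_mul_right (by omega) h5]
  case psp m q =>
    exfalso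
    obtain ⟨h5, h6⟩ : m = n ∧ n ≤ n - 1 := hO
    omega
  case oodd m q =>
    exfalso
    obtain ⟨h5, h6⟩ : m = n ∧ n ≤ n - 1 := hO
    omega
  case psu m q =>
    exfalso
    obtain ⟨h5, h6⟩ : m = 4 ∧ n = 3 := hO
    omega
  case oplus m q =>
    exfalso
    obtain ⟨h5, h6⟩ : m = n + 1 ∧ n - 1 = n + 1 := hO
    omega
  case ominus m q =>
    obtain ⟨rfl, -⟩ : m = n ∧ n - 1 ≤ n - 1 := hO
    have hq : q = p ^ f₁ := hfl
    have h5 : f₁ * (2 * m) = f * m := h1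
    have h6 : 2 * f₁ = f := Nat.eq_of_mul_eq_mul_right (show 0 < m by omega) (by rw [← h5]; ring)
    right
    refine ⟨f₁, h6, ?_, by rw [hq]⟩
    by_contra hne
    have ho : m % 2 = 1 := by omega
    have hfm : 1 * m ≤ f₁ * m := Nat.mul_le_mul_right _ hf₁
    obtain ⟨s, hs0⟩ := exists_prim (q := p) (e := f₁ * m) hp.two_le (by omega) (by
      rintro ⟨-, h7⟩
      have h8 : f₁ ≤ 1 := by
        by_contra h9
        have : 2 * m ≤ f₁ * m := Nat.mul_le_mul_right _ (by omega)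
        omega
      obtain rfl : f₁ = 1 := by omega
      omega)
    have hs := prim_pow hf₁ hs0
    have hlt : f₁ < s := by
      have h8 := lt_of_prim hs0
      have h9 : f₁ * 1 ≤ f₁ * m := Nat.mul_le_mul_left _ (by omega)
      omega
    have hs' : Prim (p ^ f) m s := by
      refine ⟨hs.prime, fun k => ?_, fun h => ?_⟩
      · rw [← h6, mul_comm 2 f₁, pow_mul, ← pow_mul, hs.dvd_iff]
        exact ⟨fun h => dvd_of_two ho h, fun h => h.mul_left _⟩
      · rw [← h6, mul_comm 2 f₁, pow_mul] at h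
        exact hs.not_dvd_pow _ h
    have hlt' : f < s := by
      have h8 := lt_of_prim hs0
      have h9 : f₁ * 2 ≤ f₁ * m := Nat.mul_le_mul_left _ (by omega)
      omega
    have h7 : s ∣ den (.ominus m q) * c := (hs1.mem hp hf hf₁ hfl hs' hlt hlt').mul_left _
    rw [hc, hq] at h7
    exact not_dvd_ominus_odd hs ho (by omega) h7
  case f4 q =>
    exfalso
    obtain ⟨h5, h6⟩ : n = 3 ∧ n - 1 = 4 := hO
    omega
  case te6 q =>
    exfalso
    obtain ⟨h5, h6⟩ : n = 3 ∧ n - 1 = 4 := hO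
    omega
  all_goals exact absurd hO not_false

/-- **`T = PSp_2n(q)` or `Ω_{2n+1}(q)`, `n ≥ 3`.** -/
theorem cp_psp (hp : p.Prime) (hf : 1 ≤ f) {n : ℕ} (hn : 3 ≤ n)
    (hex1 : ¬ (p = 2 ∧ f * (2 * n) = 6)) (hex2 : ¬ (p = 2 ∧ f * (2 * (n - 1)) = 6)) (hg : Cond g) (hch : HasChar p g)
    (hc : den g * c = num g) (hdvd : c ∣ (p ^ f) ^ (n ^ 2) * prB (p ^ f) n)
    (hs1 : HSN p f (2 * n) g c) (hs2 : HSN p f (2 * (n - 1)) g c) :
    g = .psp n (p ^ f) ∨ g = .oodd n (p ^ f) ∨ g = .psl n (p ^ (2 * f)) ∨ g = .ominus n (p ^ f) ∨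
      (n = 3 ∧ g = .psu 4 (p ^ f)) := by
  obtain ⟨f₁, hf₁, hfl, hK, hY⟩ := kd_all hp hg hch hc
  have hT := td_psp hp hf hdvd
  have hfn : 1 * (2 * n) ≤ f * (2 * n) := Nat.mul_le_mul_right _ hf
  have hfn' : 1 * (2 * (n - 1)) ≤ f * (2 * (n - 1)) := Nat.mul_le_mul_right _ hf
  have hM2 := two_le_Mg hg hch
  have hb := f1_le hp hf₁ hT hK hY hM2 (by omega)
  obtain ⟨h1, h2, h3, h4⟩ := comp hp hf hf₁ hT hK (by omega) hex1 (fun s hs => hs1.big hp hf hf₁ hfl hb hs) hY (by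
    intro hp2 h6 h5
    omega)
  have hA : 2 * ag g ≤ n * Mg g := by
    have h5 : n * (2 * ag g) ≤ n * (n * Mg g) := by
      calc n * (2 * ag g) = ag g * (2 * n) := by ring
        _ ≤ n ^ 2 * Mg g := h2
        _ = n * (n * Mg g) := by ring
    exact Nat.le_of_mul_le_mul_left h5 (by omega)
  have hO := caseA (N := n) (ρ := n) (by omega) (by omega) hg hch hA (fun x hx => hK.le hx) (by
    obtain ⟨x, hx, hx2⟩ := h3 (2 * (n - 1)) (by omega) hex2 fun s hs => hs2.big hp hf hf₁ hfl (f1_le' hM2 h1 (by omega)) hs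
    refine ⟨x, hx, ?_⟩
    rw [mul_assoc, mul_assoc] at hx2
    exact Nat.dvd_of_mul_dvd_mul_left (by norm_num) hx2)
  cases g
  case psl m q =>
    obtain rfl : m = n := hO
    have hq : q = p ^ f₁ := hfl
    have h5 : f₁ * m = f * (2 * m) := h1
    have h6 : f₁ = 2 * f := Nat.eq_of_mul_eq_mul_right (show 0 < m by omega) (by rw [h5]; ring)
    exact Or.inr (Or.inr (Or.inl (by rw [hq, h6])))
  case psp m q =>
    obtain ⟨rfl, -⟩ : m = n ∧ n ≤ n := hO
    have hq : q = p ^ f₁ := hfl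
    have h5 : f₁ * (2 * m) = f * (2 * m) := h1
    exact Or.inl (by rw [hq, Nat.eq_of_mul_eq_mul_right (by omega) h5])
  case oodd m q =>
    obtain ⟨rfl, -⟩ : m = n ∧ n ≤ n := hO
    have hq : q = p ^ f₁ := hfl
    have h5 : f₁ * (2 * m) = f * (2 * m) := h1
    exact Or.inr (Or.inl (by rw [hq, Nat.eq_of_mul_eq_mul_right (by omega) h5]))
  case psu m q =>
    obtain ⟨rfl, h6⟩ : m = 4 ∧ n = 3 := hO
    have hq : q = p ^ f₁ := hfl
    have h5 : f₁ * 6 = f * (2 * n) := h1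
    exact Or.inr (Or.inr (Or.inr (Or.inr ⟨h6, by rw [hq, show f₁ = f by rw [h6] at h5; omega]⟩)))
  case oplus m q =>
    exfalso
    obtain ⟨h5, h6⟩ : m = n + 1 ∧ n = n + 1 := hO
    omega
  case ominus m q =>
    obtain ⟨rfl, -⟩ : m = n ∧ n - 1 ≤ n := hO
    have hq : q = p ^ f₁ := hfl
    have h5 : f₁ * (2 * m) = f * (2 * m) := h1
    exact Or.inr (Or.inr (Or.inr (Or.inl (by rw [hq, Nat.eq_of_mul_eq_mul_right (by omega) h5]))))
  case f4 q =>
    exfalso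
    obtain ⟨h5, h6⟩ : n = 3 ∧ n = 4 := hO
    omega
  case te6 q =>
    exfalso
    obtain ⟨h5, h6⟩ : n = 3 ∧ n = 4 := hO
    omega
  all_goals exact absurd hO not_false

/-- **`T = Ω^-_{2n}(q)`, `n ≥ 4`.** -/
theorem cp_ominus (hp : p.Prime) (hf : 1 ≤ f) {n : ℕ} (hn : 4 ≤ n)
    (hex2 : ¬ (p = 2 ∧ f * (2 * (n - 1)) = 6)) (hg : Cond g) (hch : HasChar p g)
    (hc : den g * c = num g)
    (hdvd : c ∣ (p ^ f) ^ (n * (n - 1)) * (((p ^ f) ^ n + 1) * prB (p ^ f) (n - 1)))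
    (hs1 : HSN p f (2 * n) g c) (hs2 : HSN p f (2 * (n - 1)) g c) :
    g = .ominus n (p ^ f) := by
  obtain ⟨f₁, hf₁, hfl, hK, hY⟩ := kd_all hp hg hch hc
  have hT := td_ominus hp hf (by omega) hdvd
  have hfn : 1 * (2 * n) ≤ f * (2 * n) := Nat.mul_le_mul_right _ hf
  have hfn' : 1 * (2 * (n - 1)) ≤ f * (2 * (n - 1)) := Nat.mul_le_mul_right _ hf
  have hM2 := two_le_Mg hg hch
  have hb := f1_le hp hf₁ hT hK hY hM2 (by omega)
  obtain ⟨h1, h2, h3, h4⟩ := comp hp hf hf₁ hT hK (by omega) (by omega) (fun s hs => hs1.big hp hf hf₁ hfl hb hs) hY (by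
    intro hp2 h6 h5
    omega)
  have hA : 2 * ag g ≤ (n - 1) * Mg g := by
    have h5 : n * (2 * ag g) ≤ n * ((n - 1) * Mg g) := by
      calc n * (2 * ag g) = ag g * (2 * n) := by ring
        _ ≤ n * (n - 1) * Mg g := h2
        _ = n * ((n - 1) * Mg g) := by ring
    exact Nat.le_of_mul_le_mul_left h5 (by omega)
  have hO := caseA (N := n) (ρ := n - 1) (by omega) (by omega) hg hch hA (fun x hx => hK.le hx) (by
    obtain ⟨x, hx, hx2⟩ := h3 (2 * (n - 1)) (by omega) hex2 fun s hs => hs2.big hp hf hf₁ hfl (f1_le' hM2 h1 (by omega)) hs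
    refine ⟨x, hx, ?_⟩
    rw [mul_assoc, mul_assoc] at hx2
    exact Nat.dvd_of_mul_dvd_mul_left (by norm_num) hx2)
  cases g
  case psl m q =>
    exfalso
    obtain rfl : m = n := hO
    have hq : q = p ^ f₁ := hfl
    have h5 : f₁ * m = f * (2 * m) := h1
    have h6 : f₁ = 2 * f := Nat.eq_of_mul_eq_mul_right (show 0 < m by omega) (by rw [h5]; ring)
    -- comparison of the sizes
    have hc' : Nat.gcd m (q - 1) * (q - 1) * c = glN m q := hc
    rw [hq, h6, glN_eq] at hc'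
    obtain ⟨Q, hQ⟩ : ∃ Q, Q = p ^ f := ⟨_, rfl⟩
    have hQ2 : 2 ≤ Q := hQ ▸ (hp.two_le).trans (Nat.le_self_pow (by omega) _)
    have hQQ : p ^ (2 * f) = Q ^ 2 := by rw [mul_comm, pow_mul, hQ]
    rw [hQQ] at hc'
    rw [← hQ] at hdvd
    have h7 : (Q ^ 2) ^ (m * (m - 1) / 2) = Q ^ (m * (m - 1)) := by
      rw [← pow_mul, ← half m]
    have h8 : ∏ j ∈ Finset.range m, ((Q ^ 2) ^ (j + 1) - 1) = prB Q (m - 1) * ((Q ^ m + 1) * (Q ^ m - 1)) := by
      obtain ⟨k, rfl⟩ : ∃ k, m = k + 1 := ⟨m - 1, by omega⟩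
      rw [Finset.prod_range_succ, Nat.add_sub_cancel, prB_eq]
      congr 1
      · refine Finset.prod_congr rfl fun i _ => ?_
        rw [← pow_mul]
      · have := Nat.sq_sub_sq (Q ^ (k + 1)) 1
        rw [one_pow] at this
        rw [← this, ← pow_mul, ← pow_mul, mul_comm]
    rw [h7, h8] at hc'
    obtain ⟨k, hk⟩ := hdvd
    have hc0 : 0 < c := by
      rcases Nat.eq_zero_or_pos c with rfl | h
      · exfalso
        rw [zero_mul] at hk
        have : 0 < Q ^ (m * (m - 1)) * ((Q ^ m + 1) * prB Q (m - 1)) := by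
          refine Nat.mul_pos (pow_pos (by omega) _) (Nat.mul_pos (by omega) ?_)
          rw [prB_eq]
          refine Finset.prod_pos fun i _ => ?_
          have : 1 < Q ^ (2 * (i + 1)) := Nat.one_lt_pow (by omega) (by omega)
          omega
        omega
      · exact h
    have h9 : c * (Nat.gcd m (Q ^ 2 - 1) * (Q ^ 2 - 1)) = c * (k * (Q ^ m - 1)) := by
      calc c * (Nat.gcd m (Q ^ 2 - 1) * (Q ^ 2 - 1)) = Nat.gcd m (Q ^ 2 - 1) * (Q ^ 2 - 1) * c := by ring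
        _ = _ := hc'
        _ = Q ^ (m * (m - 1)) * ((Q ^ m + 1) * prB Q (m - 1)) * (Q ^ m - 1) := by ring
        _ = c * k * (Q ^ m - 1) := by rw [hk]
        _ = c * (k * (Q ^ m - 1)) := by ring
    have h10 := Nat.eq_of_mul_eq_mul_left hc0 h9
    have hQ21 : 3 ≤ Q ^ 2 - 1 := by
      have : 2 ^ 2 ≤ Q ^ 2 := Nat.pow_le_pow_left hQ2 2
      omega
    have hg0 : 0 < Nat.gcd m (Q ^ 2 - 1) := Nat.gcd_pos_of_pos_left _ (by omega)
    have hk0 : 0 < k := by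
      rcases Nat.eq_zero_or_pos k with rfl | h
      · rw [zero_mul] at h10
        have : 0 < Nat.gcd m (Q ^ 2 - 1) * (Q ^ 2 - 1) := Nat.mul_pos hg0 (by omega)
        omega
      · exact h
    have h11 : Q ^ m - 1 ≤ m * (Q ^ 2 - 1) := by
      calc Q ^ m - 1 ≤ k * (Q ^ m - 1) := Nat.le_mul_of_pos_left _ hk0
        _ = _ := h10.symm
        _ ≤ m * (Q ^ 2 - 1) := Nat.mul_le_mul_right _ (Nat.gcd_le_left _ (by omega))
    -- `Q ^ m - 1 ≥ (Q ^ (m-2) + 1) (Q^2 - 1)`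
    obtain ⟨j, rfl⟩ : ∃ j, m = j + 2 := ⟨m - 2, by omega⟩
    have h12 : j + 2 ≤ Q ^ j := by
      have h13 : j + 2 ≤ 2 ^ j := by
        have : ∀ i, i + 2 + 2 ≤ 2 ^ (i + 2) := by
          intro i
          induction i with
          | zero => norm_num
          | succ i ih => rw [show i + 1 + 2 = (i + 2) + 1 by ring, pow_succ]; omega
        have := this (j - 2)
        rwa [show j - 2 + 2 = j by omega] at this
      exact h13.trans (Nat.pow_le_pow_left hQ2 j)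
    have h14 : (j + 2) * (Q ^ 2 - 1) ≤ Q ^ j * (Q ^ 2 - 1) := Nat.mul_le_mul_right _ h12
    have h15 : Q ^ j * (Q ^ 2 - 1) + Q ^ j = Q ^ (j + 2) := by
      rw [pow_add]
      have : Q ^ 2 - 1 + 1 = Q ^ 2 := by omega
      calc Q ^ j * (Q ^ 2 - 1) + Q ^ j = Q ^ j * (Q ^ 2 - 1 + 1) := by ring
        _ = _ := by rw [this]
    omega
  case psp m q =>
    exfalso
    obtain ⟨h5, h6⟩ : m = n ∧ n ≤ n - 1 := hO
    omega
  case oodd m q =>
    exfalso
    obtain ⟨h5, h6⟩ : m = n ∧ n ≤ n - 1 := hO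
    omega
  case psu m q =>
    exfalso
    obtain ⟨h5, h6⟩ : m = 4 ∧ n = 3 := hO
    omega
  case oplus m q =>
    exfalso
    obtain ⟨h5, h6⟩ : m = n + 1 ∧ n - 1 = n + 1 := hO
    omega
  case ominus m q =>
    obtain ⟨rfl, -⟩ : m = n ∧ n - 1 ≤ n - 1 := hO
    have hq : q = p ^ f₁ := hfl
    have h5 : f₁ * (2 * m) = f * (2 * m) := h1
    rw [hq, Nat.eq_of_mul_eq_mul_right (by omega) h5]
  case f4 q =>
    exfalso
    obtain ⟨h5, h6⟩ : n = 3 ∧ n - 1 = 4 := hO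
    omega
  case te6 q =>
    exfalso
    obtain ⟨h5, h6⟩ : n = 3 ∧ n - 1 = 4 := hO
    omega
  all_goals exact absurd hO not_false

end Cfsg.Agent.H358.Cyc
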