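import Mathlib
import Cfsg.Agent.H358.Cyc.Hsn

/-!
# Cyclic primes, same characteristic (helper358, for S3679 and S3561): the rows of `H264.FKS.CharP2` with `HSN`
-/

set_option autoImplicit false

namespace Cfsg.Agent.H358.Cyc

open Cfsg.Agent.OrdDiv Cfsg.Agent.H436 Cfsg.Agent.H915.GN Cfsg.Agent.H264.GN Cfsg.Agent.H264.FKS

variable {p f c : ℕ} {g : Grp}

/-- **`T = Ω^+_{2n}(q)`, `n ≥ 4`.** -/
theorem cp_oplus (hp : p.Prime) (hf : 1 ≤ f) {n : ℕ} (hn : 4 ≤ n)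
    (hex1 : ¬ (p = 2 ∧ f * (2 * (n - 1)) = 6)) (hex2 : ¬ (p = 2 ∧ f * (2 * (n - 2)) = 6)) (hg : Cond g)
    (hch : HasChar p g) (hc : den g * c = num g)
    (hdvd : c ∣ (p ^ f) ^ (n * (n - 1)) * (((p ^ f) ^ n - 1) * prB (p ^ f) (n - 1)))
    (hs1 : HSN p f (2 * (n - 1)) g c) (hs2 : HSN p f (2 * (n - 2)) g c)
    (hs3 : n % 2 = 1 → HSN p f n g c) (hs4 : n % 2 = 0 → HSN p f (n - 1) g c) :
    g = .oplus n (p ^ f) ∨ (n % 2 = 0 ∧ (g = .psl (n - 1) (p ^ (2 * f)) ∨ g = .psp (n - 1) (p ^ f) ∨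
      g = .oodd (n - 1) (p ^ f))) := by
  obtain ⟨f₁, hf₁, hfl, hK, hY⟩ := kd_all hp hg hch hc
  have hT := td_oplus hp hf (by omega) hdvd
  have hfn : 1 * (2 * (n - 1)) ≤ f * (2 * (n - 1)) := Nat.mul_le_mul_right _ hf
  have hfn' : 1 * (2 * (n - 2)) ≤ f * (2 * (n - 2)) := Nat.mul_le_mul_right _ hf
  have hM2 := two_le_Mg hg hch
  have hb := f1_le hp hf₁ hT hK hY hM2 (by omega)
  obtain ⟨h1, h2, h3, h4⟩ := comp hp hf hf₁ hT hK (by omega) hex1 (fun s hs => hs1.big hp hf hf₁ hfl hb hs) hY (by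
    intro hp2 h6 h5
    omega)
  have hA : 2 * ag g ≤ n * Mg g := by
    have h5 : (n - 1) * (2 * ag g) ≤ (n - 1) * (n * Mg g) := by
      calc (n - 1) * (2 * ag g) = ag g * (2 * (n - 1)) := by ring
        _ ≤ n * (n - 1) * Mg g := h2
        _ = (n - 1) * (n * Mg g) := by ring
    exact Nat.le_of_mul_le_mul_left h5 (by omega)
  have hO := caseA (N := n - 1) (ρ := n) (by omega) (by omega) hg hch hA (fun x hx => hK.le hx) (by
    obtain ⟨x, hx, hx2⟩ := h3 (2 * (n - 2)) (by omega) hex2 fun s hs => hs2.big hp hf hf₁ hfl (f1_le' hM2 h1 (by omega)) hs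
    refine ⟨x, hx, ?_⟩
    rw [mul_assoc, mul_assoc] at hx2
    exact Nat.dvd_of_mul_dvd_mul_left (by norm_num) hx2)
  have hq2 : 2 ≤ p ^ f := (hp.two_le).trans (Nat.le_self_pow (by omega) _)
  cases g
  case psl m q =>
    obtain rfl : m = n - 1 := hO
    have hq : q = p ^ f₁ := hfl
    have h5 : f₁ * (n - 1) = f * (2 * (n - 1)) := h1
    have h6 : f₁ = 2 * f := Nat.eq_of_mul_eq_mul_right (show 0 < n - 1 by omega) (by rw [h5]; ring)
    rcases Nat.mod_two_eq_zero_or_one n with h0 | h0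
    · exact Or.inr ⟨h0, Or.inl (by rw [hq, h6])⟩
    · exfalso
      obtain ⟨s, hs, hs'⟩ := ex_primN hp hf hf₁ (by omega) h0 hc hfl (by omega) (hs3 h0)
      have h7 : s ∣ glN (n - 1) q := hs'
      rw [hq, h6, mul_comm 2 f, pow_mul] at h7
      exact not_dvd_glN_odd hs h0 (by omega) h7
  case psp m q =>
    obtain ⟨rfl, -⟩ : m = n - 1 ∧ n - 1 ≤ n := hO
    have hq : q = p ^ f₁ := hfl
    have h5 : f₁ * (2 * (n - 1)) = f * (2 * (n - 1)) := h1
    have h6 := Nat.eq_of_mul_eq_mul_right (by omega) h5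
    rcases Nat.mod_two_eq_zero_or_one n with h0 | h0
    · exact Or.inr ⟨h0, Or.inr (Or.inl (by rw [hq, h6]))⟩
    · exfalso
      obtain ⟨s, hs, hs'⟩ := ex_primN hp hf hf₁ (by omega) h0 hc hfl (by omega) (hs3 h0)
      have h7 : s ∣ q ^ ((n - 1) ^ 2) * prB q (n - 1) := hs'
      rw [hq, h6] at h7
      exact not_dvd_prB_odd hs h0 (by omega) h7
  case oodd m q =>
    obtain ⟨rfl, -⟩ : m = n - 1 ∧ n - 1 ≤ n := hO
    have hq : q = p ^ f₁ := hfl
    have h5 : f₁ * (2 * (n - 1)) = f * (2 * (n - 1)) := h1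
    have h6 := Nat.eq_of_mul_eq_mul_right (by omega) h5
    rcases Nat.mod_two_eq_zero_or_one n with h0 | h0
    · exact Or.inr ⟨h0, Or.inr (Or.inr (by rw [hq, h6]))⟩
    · exfalso
      obtain ⟨s, hs, hs'⟩ := ex_primN hp hf hf₁ (by omega) h0 hc hfl (by omega) (hs3 h0)
      have h7 : s ∣ q ^ ((n - 1) ^ 2) * prB q (n - 1) := hs'
      rw [hq, h6] at h7
      exact not_dvd_prB_odd hs h0 (by omega) h7
  case psu m q =>
    exfalso
    obtain ⟨rfl, h6⟩ : m = 4 ∧ n - 1 = 3 := hO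
    obtain rfl : n = 4 := by omega
    have hq : q = p ^ f₁ := hfl
    have h5 : f₁ * 6 = f * 6 := h1
    have h7 : f₁ = f := by omega
    obtain ⟨s, hs, hs'⟩ := ex_primN hp hf hf₁ (by norm_num) (by norm_num) hc hfl (by omega) (hs4 (by norm_num))
    have h8 : s ∣ q ^ (4 * (4 - 1) / 2) * prU q 4 := hs'
    rw [hq, h7] at h8
    refine not_dvd_psu_odd hs (by norm_num) (by norm_num) (fun i hi1 hi2 hi3 hi4 => ?_) h8
    interval_cases i <;> omega
  case oplus m q =>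
    obtain ⟨h5, -⟩ : m = n - 1 + 1 ∧ n = n - 1 + 1 := hO
    obtain rfl : m = n := by omega
    have hq : q = p ^ f₁ := hfl
    have h5 : f₁ * (2 * (m - 1)) = f * (2 * (m - 1)) := h1
    exact Or.inl (by rw [hq, Nat.eq_of_mul_eq_mul_right (by omega) h5])
  case ominus m q =>
    exfalso
    obtain ⟨hm4, -⟩ := hg
    obtain ⟨rfl, -⟩ : m = n - 1 ∧ n - 1 - 1 ≤ n := hO
    have hq : q = p ^ f₁ := hfl
    have h5 : f₁ * (2 * (n - 1)) = f * (2 * (n - 1)) := h1
    have h6 := Nat.eq_of_mul_eq_mul_right (by omega) h5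
    rcases Nat.mod_two_eq_zero_or_one n with h0 | h0
    · obtain ⟨s, hs, hs'⟩ := ex_primN hp hf hf₁ (by omega) (by omega) hc hfl (by omega) (hs4 h0)
      have h7 : s ∣ q ^ ((n - 1) * (n - 1 - 1)) * ((q ^ (n - 1) + 1) * prB q (n - 1 - 1)) := hs'
      rw [hq, h6] at h7
      exact not_dvd_ominus_odd hs (by omega) (by omega) h7
    · obtain ⟨s, hs, hs'⟩ := ex_primN hp hf hf₁ (by omega) h0 hc hfl (by omega) (hs3 h0)
      have h7 : s ∣ q ^ ((n - 1) * (n - 1 - 1)) * ((q ^ (n - 1) + 1) * prB q (n - 1 - 1)) := hs'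
      rw [hq, h6, mul_left_comm] at h7
      rcases hs.prime.dvd_mul.1 h7 with h8 | h8
      · exact not_dvd_add_odd hs h0 (by omega) _ h8
      · exact not_dvd_prB_odd hs h0 (by omega) h8
  case f4 q =>
    exfalso
    obtain ⟨h5, h6⟩ : n - 1 = 3 ∧ n = 4 := hO
    subst h6
    have hq : q = p ^ f₁ := hfl
    have h7 : f₁ * 12 = f * 6 := h1
    have h8 : f = 2 * f₁ := by omega
    have h9 : 1 * c = q ^ 24 * ((q ^ 2 - 1) * (q ^ 6 - 1) * (q ^ 8 - 1) * (q ^ 12 - 1)) := hc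
    have h10 : prB (p ^ f) (4 - 1) = ((p ^ f) ^ 2 - 1) * ((p ^ f) ^ 4 - 1) * ((p ^ f) ^ 6 - 1) := by
      rw [prB_eq, Finset.prod_range_succ, Finset.prod_range_succ, Finset.prod_range_succ, Finset.prod_range_zero,
        one_mul]
    obtain ⟨x, hx⟩ : ∃ x, x = q ^ 2 := ⟨_, rfl⟩
    have hx2 : p ^ f = x := by rw [hx, hq, h8, ← pow_mul, mul_comm]
    rw [hx2] at h10 hdvd
    rw [h10] at hdvd
    rw [one_mul, show q ^ 24 = x ^ 12 by rw [hx]; ring, show q ^ 6 = x ^ 3 by rw [hx]; ring,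
      show q ^ 8 = x ^ 4 by rw [hx]; ring, show q ^ 12 = x ^ 6 by rw [hx]; ring, ← hx] at h9
    rw [h9] at hdvd
    have hx3 : 2 ≤ x := hx2 ▸ hq2
    have hpos : ∀ k, 1 ≤ k → 0 < x ^ k - 1 := fun k hk => by
      have : 1 < x ^ k := Nat.one_lt_pow (by omega) (by omega)
      omega
    have h11 : (x ^ 12 * (x ^ 4 - 1) * (x ^ 6 - 1)) * ((x - 1) * (x ^ 3 - 1)) ∣
        (x ^ 12 * (x ^ 4 - 1) * (x ^ 6 - 1)) * ((x ^ 2 - 1) * (x ^ 4 - 1)) := by
      obtain ⟨k, hk⟩ := hdvd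
      refine ⟨k, ?_⟩
      calc (x ^ 12 * (x ^ 4 - 1) * (x ^ 6 - 1)) * ((x ^ 2 - 1) * (x ^ 4 - 1)) =
          x ^ (4 * (4 - 1)) * ((x ^ 4 - 1) * ((x ^ 2 - 1) * (x ^ 4 - 1) * (x ^ 6 - 1))) := by
            norm_num only
            ring
        _ = _ := hk
        _ = _ := by ring
    have h12 := Nat.dvd_of_mul_dvd_mul_left (Nat.mul_pos (Nat.mul_pos (by positivity) (hpos 4 (by norm_num)))
      (hpos 6 (by norm_num))) h11
    exact f4_dvd hx3 h12
  case te6 q =>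
    exfalso
    obtain ⟨h5, h6⟩ : n - 1 = 3 ∧ n = 4 := hO
    subst h6
    obtain ⟨i, ⟨hi1, hi2, -⟩, hi3⟩ := h4 10 (by show (10 : ℕ) ∈ _; decide) (by omega) (by omega)
    have hi4 : 6 * 10 ∣ 18 * i := hi3
    have hi5 : i ≤ 6 := hi2
    interval_cases i <;> omega
  all_goals exact absurd hO not_false

/-- **`T = PSU_4(q)`, `q ≠ 2`.** -/
theorem cp_psu4 (hp : p.Prime) (hf : 1 ≤ f) (hex1 : ¬ (p = 2 ∧ f * 6 = 6)) (hg : Cond g)
    (hch : HasChar p g) (hc : den g * c = num g)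
    (hdvd : c ∣ (p ^ f) ^ (4 * (4 - 1) / 2) * prU (p ^ f) 4)
    (hs1 : HSN p f 6 g c) (hs2 : HSN p f 4 g c) :
    g = .psu 4 (p ^ f) := by
  obtain ⟨f₁, hf₁, hfl, hK, hY⟩ := kd_all hp hg hch hc
  have hT := td_psu hp hf hdvd
  have hM2 := two_le_Mg hg hch
  have hb : f₁ ≤ f * 6 := f1_le hp hf₁ hT hK hY hM2 (show 3 ≤ f * 6 by omega)
  obtain ⟨h1, h2, h3, h4⟩ := comp hp hf hf₁ hT hK (show 3 ≤ f * 6 by omega) hex1
    (fun s hs => hs1.big hp hf hf₁ hfl hb hs) hY (by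
    intro hp2 h6 h5
    have : f * 6 ≤ 5 := h5
    omega)
  have h1' : f₁ * Mg g = f * 6 := h1
  have h2' : ag g * 6 ≤ 6 * Mg g := h2
  have hA : 2 * ag g ≤ 2 * Mg g := by omega
  have hO := caseA (N := 3) (ρ := 2) (by omega) (by omega) hg hch hA (fun x hx => hK.le hx) (by
    obtain ⟨x, hx, hx2⟩ := h3 4 (by omega) (by omega) fun s hs => hs2.big hp hf hf₁ hfl (f1_le' hM2 h1' (by omega)) hs
    refine ⟨x, hx, ?_⟩
    have hx3 : 4 * Mg g ∣ 6 * x := hx2
    refine Nat.dvd_of_mul_dvd_mul_left (show 0 < 2 by norm_num) ?_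
    obtain ⟨k, hk⟩ := hx3
    exact ⟨k, by linarith [hk]⟩)
  have hq2 : 2 ≤ p ^ f := (hp.two_le).trans (Nat.le_self_pow (by omega) _)
  cases g
  case psl m q =>
    exfalso
    obtain rfl : m = 3 := hO
    have hq : q = p ^ f₁ := hfl
    have h5 : f₁ * 3 = f * 6 := h1
    have h6 : f₁ = 2 * f := by omega
    obtain ⟨s, hs⟩ := exists_prim hq2 (e := 3) (by omega) (by omega)
    have hQ : q = (p ^ f) ^ 2 := by rw [hq, h6, mul_comm 2 f, pow_mul]
    -- `s ∣ c`
    have h7 : s ∣ Nat.gcd 3 (q - 1) * (q - 1) * c := by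
      have : Nat.gcd 3 (q - 1) * (q - 1) * c = glN 3 q := hc
      rw [this, glN_eq, hQ]
      refine Dvd.dvd.mul_left ?_ _
      refine Dvd.dvd.trans ?_ (Finset.dvd_prod_of_mem (fun j => ((p ^ f) ^ 2) ^ (j + 1) - 1)
        (Finset.mem_range.2 (show 2 < 3 by norm_num)))
      show s ∣ ((p ^ f) ^ 2) ^ (2 + 1) - 1
      rw [← pow_mul]
      exact hs.dvd (by norm_num)
    have h8 : ¬ s ∣ q - 1 := by
      rw [hQ, hs.dvd_iff]
      norm_num
    have h9 : s ∣ c := by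
      rcases hs.prime.dvd_mul.1 h7 with h | h
      · rcases hs.prime.dvd_mul.1 h with h | h
        · exact absurd (h.trans (Nat.gcd_dvd_right _ _)) h8
        · exact absurd h h8
      · exact h
    refine not_dvd_psu_odd hs (by norm_num) (by norm_num) (fun i hi1 hi2 hi3 hi4 => ?_) (h9.trans hdvd)
    interval_cases i <;> omega
  case psp m q =>
    exfalso
    obtain ⟨-, h5⟩ : m = 3 ∧ 3 ≤ 2 := hO
    omega
  case oodd m q =>
    exfalso
    obtain ⟨-, h5⟩ : m = 3 ∧ 3 ≤ 2 := hO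
    omega
  case psu m q =>
    obtain ⟨rfl, -⟩ : m = 4 ∧ 3 = 3 := hO
    have hq : q = p ^ f₁ := hfl
    have h5 : f₁ * 6 = f * 6 := h1
    rw [hq, show f₁ = f by omega]
  case oplus m q =>
    exfalso
    obtain ⟨-, h5⟩ : m = 3 + 1 ∧ 2 = 3 + 1 := hO
    omega
  case ominus m q =>
    exfalso
    obtain ⟨hm4, -⟩ := hg
    obtain ⟨h5, -⟩ : m = 3 ∧ 3 - 1 ≤ 2 := hO
    omega
  case f4 q =>
    exfalso
    obtain ⟨-, h5⟩ : 3 = 3 ∧ 2 = 4 := hO
    omega
  case te6 q =>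
    exfalso
    obtain ⟨-, h5⟩ : 3 = 3 ∧ 2 = 4 := hO
    omega
  all_goals exact absurd hO not_false

/-- **`T = PSU_n(q)`, `n ≥ 5`.** -/
theorem cp_psu (hp : p.Prime) (hf : 1 ≤ f) {n N : ℕ} (hn : 5 ≤ n) (hN : N = if n % 2 = 0 then n - 1 else n)
    (hex2 : ¬ (p = 2 ∧ f * (2 * (N - 2)) = 6)) (hg : Cond g)
    (hch : HasChar p g) (hc : den g * c = num g)
    (hdvd : c ∣ (p ^ f) ^ (n * (n - 1) / 2) * prU (p ^ f) n)
    (hs1 : HSN p f (2 * N) g c) (hs2 : HSN p f (2 * (N - 2)) g c)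
    (hs3 : n % 4 = 0 → HSN p f n g c) (hs4 : n % 4 = 2 → HSN p f (n / 2) g c) :
    g = .psu n (p ^ f) := by
  obtain ⟨f₁, hf₁, hfl, hK, hY⟩ := kd_all hp hg hch hc
  have hT := td_psu hp hf hdvd
  rw [← hN] at hT
  have hN5 : 5 ≤ N := by rw [hN]; split_ifs <;> omega
  have hNo : N % 2 = 1 := by rw [hN]; split_ifs <;> omega
  have hfn : 1 * (2 * N) ≤ f * (2 * N) := Nat.mul_le_mul_right _ hf
  have hfn' : 1 * (2 * (N - 2)) ≤ f * (2 * (N - 2)) := Nat.mul_le_mul_right _ hf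
  have hM2 := two_le_Mg hg hch
  have hb := f1_le hp hf₁ hT hK hY hM2 (by omega)
  obtain ⟨h1, h2, h3, h4⟩ := comp hp hf hf₁ hT hK (by omega) (by omega) (fun s hs => hs1.big hp hf hf₁ hfl hb hs) hY (by
    intro hp2 h6 h5
    omega)
  have hh := half n
  have hB : 4 * ag g ≤ (if n % 2 = 0 then n else n - 1) * Mg g := by
    have h5 : N * (4 * ag g) ≤ N * ((if n % 2 = 0 then n else n - 1) * Mg g) := by
      calc N * (4 * ag g) = 2 * (ag g * (2 * N)) := by ring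
        _ ≤ 2 * (n * (n - 1) / 2 * Mg g) := Nat.mul_le_mul_left _ h2
        _ = (2 * (n * (n - 1) / 2)) * Mg g := by ring
        _ = n * (n - 1) * Mg g := by rw [← hh]
        _ = N * ((if n % 2 = 0 then n else n - 1) * Mg g) := by
          rw [hN]
          split_ifs <;> ring
    exact Nat.le_of_mul_le_mul_left h5 (by omega)
  have hO := caseB (N := N) (ρ := if n % 2 = 0 then n else n - 1) hN5 hNo (by rw [hN]; split_ifs <;> omega) hg hch hB
    (fun x hx => hK.le hx) (by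
    obtain ⟨x, hx, hx2⟩ := h3 (2 * (N - 2)) (by omega) hex2 fun s hs => hs2.big hp hf hf₁ hfl (f1_le' hM2 h1 (by omega)) hs
    refine ⟨x, hx, ?_⟩
    rw [mul_assoc, mul_assoc] at hx2
    exact Nat.dvd_of_mul_dvd_mul_left (by norm_num) hx2)
  have hq2 : 2 ≤ p ^ f := (hp.two_le).trans (Nat.le_self_pow (by omega) _)
  cases g
  case psu m q =>
    have hO' : m = N ∨ (m = N + 1 ∧ (if n % 2 = 0 then n else n - 1) = N + 1) := hO
    have hq : q = p ^ f₁ := hfl
    have h5 : f₁ * (2 * (if m % 2 = 0 then m - 1 else m)) = f * (2 * N) := h1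
    have h6 : (if m % 2 = 0 then m - 1 else m) = N := by
      rcases hO' with h | ⟨h, -⟩
      · rw [if_neg (by omega)]
        exact h
      · rw [if_pos (by omega)]
        omega
    rw [h6] at h5
    have h7 : f₁ = f := Nat.eq_of_mul_eq_mul_right (by omega) h5
    rw [h7] at hq
    suffices hmn : m = n by rw [hq, hmn]
    rcases Nat.mod_two_eq_zero_or_one n with h0 | h0
    · rw [if_pos h0] at hN hO'
      rcases hO' with h | ⟨h, -⟩
      · exfalso
        have h8 : c ∣ q ^ (m * (m - 1) / 2) * prU q m := by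
          have : den (.psu m q) * c = q ^ (m * (m - 1) / 2) * prU q m := hc
          rw [← this]
          exact Dvd.intro_left _ rfl
        rw [hq] at h8
        rcases (show n % 4 = 0 ∨ n % 4 = 2 by omega) with h9 | h9
        · have hfn2 : 1 * n ≤ f * n := Nat.mul_le_mul_right _ hf
          obtain ⟨s, hs0⟩ := exists_prim hp.two_le (e := f * n) (by omega) (by omega)
          have hs := prim_pow hf hs0
          have h11 := lt_of_prim hs0
          have h12 : f * 1 ≤ f * n := Nat.mul_le_mul_left _ (by omega)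
          have h10 := ((hs3 h9).mem hp hf hf₁ hfl hs (by omega) (by omega)).trans h8
          rw [← pow_one (p ^ f)] at h10
          obtain ⟨i, hi, hi2⟩ := exp_psu hs h10
          rw [one_mul] at hi2
          rcases hi with ⟨hi3, hi4, -⟩ | ⟨j, rfl, hj, hj2⟩
          · have := Nat.le_of_dvd (by omega) hi2
            omega
          · obtain ⟨k, hk⟩ := hi2
            rcases Nat.lt_or_ge k 2 with h11 | h11
            · interval_cases k <;> omega
            · have : n * 2 ≤ n * k := Nat.mul_le_mul_left _ h11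
              omega
        · obtain ⟨s, hs, hs''⟩ := ex_primN hp hf hf₁ (e := n / 2) (by omega) (by omega) hc hfl (by omega) (hs4 h9)
          have hs3' : s ∣ q ^ (m * (m - 1) / 2) * prU q m := hs''
          rw [hq] at hs3'
          refine not_dvd_psu_odd hs (by omega) (by omega) (fun i hi1 hi2 hi3 hi4 => ?_) hs3'
          obtain ⟨k, hk⟩ := hi4
          rcases Nat.lt_or_ge k 2 with h11 | h11
          · interval_cases k <;> omega
          · have : n / 2 * 2 ≤ n / 2 * k := Nat.mul_le_mul_left _ h11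
            omega
      · omega
    · rw [if_neg (by omega)] at hN hO'
      rcases hO' with h | ⟨h, h8⟩
      · omega
      · omega
  all_goals exact absurd hO not_false

end Cfsg.Agent.H358.Cyc
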