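import Mathlib
import Cfsg.Agent.H358.Cyc.CharP2

/-!
# Cyclic primes, same characteristic (helper358, for S3679 and S3561): `PSU_6(q)` and `PΩ^+_8(q)`
-/

set_option autoImplicit false

namespace Cfsg.Agent.H358.Cyc

open Cfsg.Agent.OrdDiv Cfsg.Agent.H436 Cfsg.Agent.H915.GN Cfsg.Agent.H264.GN Cfsg.Agent.H264.FKS

variable {p f c : ℕ} {g : Grp}

theorem Mg_eq_two (hg : Cond g) (hch : HasChar p g) (h : Mg g = 2) : ∃ q, g = .psl 2 q := by
  cases g
  case psl m q =>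
    obtain rfl : m = 2 := h
    exact ⟨q, rfl⟩
  case psp m q =>
    obtain ⟨hm, -, -⟩ := hg
    have h' : 2 * m = 2 := h
    omega
  case psu m q =>
    obtain ⟨hm, -, -⟩ := hg
    have h' : 2 * (if m % 2 = 0 then m - 1 else m) = 2 := h
    split_ifs at h' <;> omega
  case oodd m q =>
    obtain ⟨hm, -, -⟩ := hg
    have h' : 2 * m = 2 := h
    omega
  case oplus m q =>
    obtain ⟨hm, -⟩ := hg
    have h' : 2 * (m - 1) = 2 := h
    omega
  case ominus m q =>
    obtain ⟨hm, -⟩ := hg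
    have h' : 2 * m = 2 := h
    omega
  case g2 q => exact absurd (show (6 : ℕ) = 2 from h) (by norm_num)
  case f4 q => exact absurd (show (12 : ℕ) = 2 from h) (by norm_num)
  case e6 q => exact absurd (show (12 : ℕ) = 2 from h) (by norm_num)
  case e7 q => exact absurd (show (18 : ℕ) = 2 from h) (by norm_num)
  case e8 q => exact absurd (show (30 : ℕ) = 2 from h) (by norm_num)
  case te6 q => exact absurd (show (18 : ℕ) = 2 from h) (by norm_num)
  case td4 q => exact absurd (show (12 : ℕ) = 2 from h) (by norm_num)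
  case sz q => exact absurd (show (4 : ℕ) = 2 from h) (by norm_num)
  case ree q => exact absurd (show (6 : ℕ) = 2 from h) (by norm_num)
  case tf4 q => exact absurd (show (12 : ℕ) = 2 from h) (by norm_num)
  all_goals exact absurd hch not_false

/-- a prime of order `3` modulo `q` does not divide `|PSL_2(q^k)|`, `3 ∤ k`, `3 ∤ 2 k` -/
theorem not_dvd_psl2 {q s k : ℕ} (hs : Prim q 3 s) (hk : ¬ 3 ∣ k) : ¬ s ∣ glN 2 (q ^ k) := by
  intro h
  rw [glN_eq] at h
  rcases hs.prime.dvd_mul.1 h with h1 | h1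
  · rw [← pow_mul] at h1
    exact hs.not_dvd_pow _ h1
  · rw [Prime.dvd_finsetProd_iff hs.prime.prime] at h1
    obtain ⟨i, hi, hd⟩ := h1
    rw [Finset.mem_range] at hi
    rw [← pow_mul, hs.dvd_iff] at hd
    have : i = 0 ∨ i = 1 := by omega
    rcases this with rfl | rfl
    · exact hk (by simpa using hd)
    · have h2 : Nat.Coprime 3 (1 + 1) := by norm_num
      exact hk (h2.dvd_of_dvd_mul_right hd)

theorem exists_prim3 (hp : p.Prime) (hf : 1 ≤ f) : ∃ s, Prim (p ^ f) 3 s ∧ ¬ s ∣ f ∧ 3 * f < s ∨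
    (p = 2 ∧ f = 2 ∧ s = 7 ∧ Prim (p ^ f) 3 s) := by
  by_cases h6 : p = 2 ∧ f * 3 = 6
  · obtain ⟨rfl, h6⟩ := h6
    obtain rfl : f = 2 := by omega
    exact ⟨7, Or.inr ⟨rfl, rfl, rfl, by norm_num; exact prim_four_three⟩⟩
  · obtain ⟨s, hs'⟩ := exists_prim hp.two_le (e := f * 3) (by omega) h6
    refine ⟨s, Or.inl ⟨prim_pow hf hs', fun hd => ?_, ?_⟩⟩
    · have := Nat.le_of_dvd (by omega) hd
      have := lt_of_prim hs'
      omega
    · have := lt_of_prim hs'
      omega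

/-- **`T = PSU_6(q)`**, exponents 10, 4, 3. -/
theorem cp_psu6 (hp : p.Prime) (hf : 1 ≤ f) (hg : Cond g) (hch : HasChar p g) (hc : den g * c = num g)
    (hdvd : c ∣ (p ^ f) ^ (6 * (6 - 1) / 2) * prU (p ^ f) 6)
    (hs1 : HSN p f 10 g c) (hs2 : HSN p f 4 g c) (hs3 : HSN p f 3 g c) :
    g = .psu 6 (p ^ f) := by
  obtain ⟨f₁, hf₁, hfl, hK, hY⟩ := kd_all hp hg hch hc
  have hT := td_psu hp hf hdvd
  have hM2 := two_le_Mg hg hch
  have hb : f₁ ≤ f * 10 := f1_le hp hf₁ hT hK hY hM2 (show 3 ≤ f * 10 by omega)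
  obtain ⟨h1, h2, h3, h4⟩ := comp hp hf hf₁ hT hK (show 3 ≤ f * 10 by omega)
    (fun h => by
      have h' : f * 10 = 6 := h.2
      omega)
    (fun s hs => hs1.big hp hf hf₁ hfl hb hs) hY (by
    intro hp2 h6 h5
    have : f * 10 ≤ 5 := h5
    omega)
  have h1' : f₁ * Mg g = f * 10 := h1
  have h2' : ag g * 10 ≤ 15 * Mg g := h2
  have hA : 2 * ag g ≤ 3 * Mg g := by omega
  by_cases hM : Mg g = 2
  · exfalso
    obtain ⟨q, rfl⟩ := Mg_eq_two hg hch hM
    have h5 : f₁ = 5 * f := by rw [hM] at h1'; omega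
    have hq : q = p ^ f₁ := hfl
    have hq' : q = (p ^ f) ^ 5 := by rw [hq, h5, mul_comm 5 f, pow_mul]
    -- a prime of order three
    obtain ⟨s, hs | ⟨rfl, rfl, rfl, hs⟩⟩ := exists_prim3 hp hf
    · obtain ⟨hs, hsf, hlt⟩ := hs
      have h6 : s ∣ c := hs3.mem' hp hfl hs hsf (fun hd => by
        rw [h5] at hd
        rcases hs.prime.dvd_mul.1 hd with h7 | h7
        · have h8 : s = 5 := (Nat.prime_dvd_prime_iff_eq hs.prime Nat.prime_five).1 h7
          have h9 := prim_dvd_sub hs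
          rw [h8] at h9
          norm_num at h9
        · exact hsf h7)
      have h7 : s ∣ den (.psl 2 q) * c := h6.mul_left _
      rw [hc, hq'] at h7
      exact not_dvd_psl2 hs (by norm_num) h7
    · have h6 : 7 ∣ c := hs3.mem' hp hfl hs (by norm_num) (by rw [h5]; norm_num)
      have h7 : 7 ∣ den (.psl 2 q) * c := h6.mul_left _
      rw [hc, hq'] at h7
      exact not_dvd_psl2 hs (by norm_num) h7
  · have hM3 : 3 ≤ Mg g := by omega
    have hle : f₁ ≤ f * 4 := by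
      have : f₁ * 3 ≤ f₁ * Mg g := Nat.mul_le_mul_left _ hM3
      omega
    obtain ⟨x, hx, hx2⟩ := h3 4 (by omega) (by omega) fun s hs => hs2.big hp hf hf₁ hfl hle hs
    have hx3 : 4 * Mg g ∣ 10 * x := hx2
    obtain ⟨hx4, hx5⟩ := hK.le hx
    have h5M : 5 ∣ Mg g := by
      obtain ⟨k, hk⟩ := hx3
      have hk2 : k ≤ 2 := by
        by_contra hcon
        push Not at hcon
        have : 4 * Mg g * 3 ≤ 4 * Mg g * k := Nat.mul_le_mul_left _ hcon
        omega
      interval_cases k <;> omega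
    cases g
    case psl m q =>
      exfalso
      obtain ⟨hm, -, -⟩ := hg
      have h5 : 5 ∣ m := h5M
      have h6 : 2 * (m * (m - 1) / 2) ≤ 3 * m := hA
      rw [two_half] at h6
      have h7 : m - 1 ≤ 3 := by
        rw [mul_comm 3] at h6
        exact Nat.le_of_mul_le_mul_left h6 (by omega)
      omega
    case psp m q =>
      exfalso
      obtain ⟨hm, -, -⟩ := hg
      have h5 : 5 ∣ 2 * m := h5M
      have h6 : 2 * m ^ 2 ≤ 3 * (2 * m) := hA
      have h7 : m ≤ 3 := by nlinarith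
      omega
    case oodd m q =>
      exfalso
      obtain ⟨hm, -, -⟩ := hg
      have h5 : 5 ∣ 2 * m := h5M
      have h6 : 2 * m ^ 2 ≤ 3 * (2 * m) := hA
      have h7 : m ≤ 3 := by nlinarith
      omega
    case psu m q =>
      obtain ⟨hm, -, -⟩ := hg
      have h5 : 5 ∣ 2 * (if m % 2 = 0 then m - 1 else m) := h5M
      have h6 : 2 * (m * (m - 1) / 2) ≤ 3 * (2 * (if m % 2 = 0 then m - 1 else m)) := hA
      have h8 : f₁ * (2 * (if m % 2 = 0 then m - 1 else m)) = f * 10 := h1'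
      have hq : q = p ^ f₁ := hfl
      rw [two_half] at h6
      by_cases h0 : m % 2 = 0
      · rw [if_pos h0] at h5 h6 h8
        have h7 : m ≤ 6 := by
          have : (m - 1) * m ≤ (m - 1) * 6 := by nlinarith
          exact Nat.le_of_mul_le_mul_left this (by omega)
        obtain rfl : m = 6 := by omega
        rw [hq, show f₁ = f by omega]
      · exfalso
        rw [if_neg h0] at h5 h6 h8
        have h7 : m - 1 ≤ 6 := by
          have : m * (m - 1) ≤ m * 6 := by nlinarith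
          exact Nat.le_of_mul_le_mul_left this (by omega)
        obtain rfl : m = 5 := by omega
        have h9 : f₁ = f := by omega
        obtain ⟨s, hs, hs'⟩ := ex_primN hp hf hf₁ (by norm_num) (by norm_num) hc hfl (by omega) hs3
        have h10 : s ∣ q ^ (5 * (5 - 1) / 2) * prU q 5 := hs'
        rw [hq, h9] at h10
        refine not_dvd_psu_odd hs (by norm_num) (by norm_num) (fun i hi1 hi2 hi3 hi4 => ?_) h10
        interval_cases i <;> omega
    case oplus m q =>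
      exfalso
      obtain ⟨hm, -⟩ := hg
      have h6 : 2 * (m * (m - 1)) ≤ 3 * (2 * (m - 1)) := hA
      have h7 : m ≤ 3 := by
        have : (m - 1) * m ≤ (m - 1) * 3 := by nlinarith
        exact Nat.le_of_mul_le_mul_left this (by omega)
      omega
    case ominus m q =>
      exfalso
      obtain ⟨hm, -⟩ := hg
      have h5 : 5 ∣ 2 * m := h5M
      have h6 : 2 * (m * (m - 1)) ≤ 3 * (2 * m) := hA
      have h7 : m - 1 ≤ 3 := by
        have : m * (m - 1) ≤ m * 3 := by nlinarith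
        exact Nat.le_of_mul_le_mul_left this (by omega)
      omega
    case g2 q => exact absurd (show 5 ∣ 6 from h5M) (by norm_num)
    case f4 q => exact absurd (show 5 ∣ 12 from h5M) (by norm_num)
    case e6 q => exact absurd (show 5 ∣ 12 from h5M) (by norm_num)
    case e7 q => exact absurd (show 5 ∣ 18 from h5M) (by norm_num)
    case e8 q => exact absurd (show 2 * 120 ≤ 3 * 30 from hA) (by norm_num)
    case te6 q => exact absurd (show 5 ∣ 18 from h5M) (by norm_num)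
    case td4 q => exact absurd (show 5 ∣ 12 from h5M) (by norm_num)
    case sz q => exact absurd (show 5 ∣ 4 from h5M) (by norm_num)
    case ree q => exact absurd (show 5 ∣ 6 from h5M) (by norm_num)
    case tf4 q => exact absurd (show 5 ∣ 12 from h5M) (by norm_num)
    all_goals exact absurd hch not_false

theorem le_six {x k : ℤ} (hx : 2 ≤ x) (h : (x ^ 3 - 1) * k = 2 * (x ^ 6 * ((x ^ 4 - 1) * (x ^ 4 - 1) * (x ^ 2 - 1)))) :
    x ^ 2 + x + 1 ≤ 6 := by
  have h2 : (x - 1) * ((x ^ 2 + x + 1) * k) = (x - 1) * (2 * x ^ 6 * (x ^ 4 - 1) ^ 2 * (x + 1)) := by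
    linear_combination h
  have h3 := mul_left_cancel₀ (show x - 1 ≠ 0 by omega) h2
  have h4 : (x ^ 2 + x + 1) ∣ 6 := by
    refine ⟨k - ((-6)*x^0 + (6)*x^1 + (-6)*x^3 + (6)*x^4 + (-4)*x^6 + (6)*x^7 + (-2)*x^8 + (-4)*x^9 + (2)*x^10 +
      (-2)*x^11 + (2)*x^13), ?_⟩
    linear_combination -h3
  exact Int.le_of_dvd (by norm_num) h4

theorem td4_false {x k : ℤ} (hx : 2 ≤ x)
    (h : x ^ 6 * ((x - 1) * (x ^ 3 - 1) * (x ^ 4 + x ^ 2 + 1)) * k =
      x ^ 12 * ((x ^ 4 - 1) * ((x ^ 2 - 1) * (x ^ 4 - 1) * (x ^ 6 - 1)))) : False := by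
  have h2 : (x ^ 6 * (x - 1) * (x ^ 3 - 1) * (x ^ 2 - x + 1)) * ((x ^ 2 + x + 1) * k) =
      (x ^ 6 * (x - 1) * (x ^ 3 - 1) * (x ^ 2 - x + 1)) * (x ^ 6 * (x ^ 4 - 1) ^ 2 * (x + 1) ^ 2) := by
    linear_combination h
  have hne : x ^ 6 * (x - 1) * (x ^ 3 - 1) * (x ^ 2 - x + 1) ≠ 0 := by
    have h1 : 0 < x ^ 6 := by positivity
    have h2 : 0 < x - 1 := by omega
    have h3 : 0 < x ^ 3 - 1 := by nlinarith
    have h4 : 0 < x ^ 2 - x + 1 := by nlinarith
    positivity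
  have h3 := mul_left_cancel₀ hne h2
  have h4 : (x ^ 2 + x + 1) ∣ 3 := by
    refine ⟨((3)*x^0 + (-3)*x^1 + (3)*x^3 + (-3)*x^4 + (3)*x^6 + (-2)*x^7 + (1)*x^8 + (2)*x^9 + (-3)*x^10 + (-1)*x^11 + (-1)*x^13 + (1)*x^14 + (1)*x^15) - x * k, ?_⟩
    linear_combination x * h3
  have h5 := Int.le_of_dvd (by norm_num) h4
  nlinarith


theorem prB_three (x : ℕ) : prB x (4 - 1) = (x ^ 2 - 1) * (x ^ 4 - 1) * (x ^ 6 - 1) := by
  rw [prB_eq, Finset.prod_range_succ, Finset.prod_range_succ, Finset.prod_range_succ, Finset.prod_range_zero,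
    one_mul]

/-- `PSp_4(q^(3/2))` -/
theorem psp2_false {x q D c : ℕ} (hx : 4 ≤ x) (hq : q ^ 2 = x ^ 3) (hD : D ∣ 2) (hc : D * c = q ^ (2 ^ 2) * prB q 2)
    (hdvd : c ∣ x ^ (4 * (4 - 1)) * ((x ^ 4 - 1) * prB x (4 - 1))) : False := by
  rw [prB_three] at hdvd
  have h1 : prB q 2 = (q ^ 2 - 1) * (q ^ 4 - 1) := by
    rw [prB_eq, Finset.prod_range_succ, Finset.prod_range_succ, Finset.prod_range_zero, one_mul]
  have h2 : q ^ (2 ^ 2) = x ^ 6 := by
    calc q ^ (2 ^ 2) = (q ^ 2) ^ 2 := by ring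
      _ = x ^ 6 := by rw [hq]; ring
  have h2' : q ^ 4 = x ^ 6 := by
    calc q ^ 4 = (q ^ 2) ^ 2 := by ring
      _ = x ^ 6 := by rw [hq]; ring
  rw [h1, h2, hq, h2'] at hc
  obtain ⟨t, ht⟩ := hD
  obtain ⟨k, hk⟩ := hdvd
  have e2 : 1 ≤ x ^ 2 := Nat.one_le_pow _ _ (by omega)
  have e3 : 1 ≤ x ^ 3 := Nat.one_le_pow _ _ (by omega)
  have e4 : 1 ≤ x ^ 4 := Nat.one_le_pow _ _ (by omega)
  have e6 : 1 ≤ x ^ 6 := Nat.one_le_pow _ _ (by omega)
  zify [e2, e3, e4, e6] at hc hk ht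
  have hx' : (4 : ℤ) ≤ x := by exact_mod_cast hx
  obtain ⟨X, hX⟩ : ∃ X : ℤ, X = x := ⟨_, rfl⟩
  rw [← hX] at hc hk hx'
  have h3 : (X ^ 6 * (X ^ 6 - 1)) * ((X ^ 3 - 1) * (t * k)) =
      (X ^ 6 * (X ^ 6 - 1)) * (2 * (X ^ 6 * ((X ^ 4 - 1) * (X ^ 4 - 1) * (X ^ 2 - 1)))) := by
    have h4 : (X ^ 6 * (X ^ 6 - 1)) * ((X ^ 3 - 1) * (t * k)) = (D * c) * (t * k) := by rw [hc]; ring
    have h5 : ((D : ℤ) * c) * (t * k) = 2 * (c * k) := by rw [ht]; ring
    rw [h4, h5, ← hk]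
    norm_num only
    ring
  have h6 : 0 < X ^ 6 * (X ^ 6 - 1) := by
    have h7 : 0 < X ^ 6 := by positivity
    have h8 : 0 < X ^ 6 - 1 := by nlinarith [pow_le_pow_left₀ (by norm_num : (0 : ℤ) ≤ 4) hx' 6]
    positivity
  have h9 := le_six (by omega) (mul_left_cancel₀ h6.ne' h3)
  nlinarith

/-- `3D4(q^(1/2))` -/
theorem td4x_false {x q c : ℕ} (hx : 2 ≤ x) (hq : q ^ 2 = x)
    (hc : 1 * c = q ^ 12 * ((q ^ 2 - 1) * (q ^ 6 - 1) * (q ^ 8 + q ^ 4 + 1)))
    (hdvd : c ∣ x ^ (4 * (4 - 1)) * ((x ^ 4 - 1) * prB x (4 - 1))) : False := by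
  rw [prB_three] at hdvd
  have h12 : q ^ 12 = x ^ 6 := by rw [← hq]; ring
  have h6 : q ^ 6 = x ^ 3 := by rw [← hq]; ring
  have h8 : q ^ 8 = x ^ 4 := by rw [← hq]; ring
  have h4 : q ^ 4 = x ^ 2 := by rw [← hq]; ring
  rw [one_mul, h12, h6, h8, h4, hq] at hc
  obtain ⟨k, hk⟩ := hdvd
  have e1 : 1 ≤ x := by omega
  have e2 : 1 ≤ x ^ 2 := Nat.one_le_pow _ _ (by omega)
  have e3 : 1 ≤ x ^ 3 := Nat.one_le_pow _ _ (by omega)
  have e4 : 1 ≤ x ^ 4 := Nat.one_le_pow _ _ (by omega)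
  have e6 : 1 ≤ x ^ 6 := Nat.one_le_pow _ _ (by omega)
  rw [hc] at hk
  zify [e1, e2, e3, e4, e6] at hk
  refine td4_false (x := (x : ℤ)) (k := k) (by exact_mod_cast hx) ?_
  norm_num only at hk
  rw [← hk]

/-- `2F4(q^(1/2))` : a prime of order `3` modulo `q₀` does not divide the order -/
theorem not_dvd_tf4 {q s : ℕ} (hs : Prim q 3 s) :
    ¬ s ∣ q ^ 12 * ((q - 1) * (q ^ 3 + 1) * (q ^ 4 - 1) * (q ^ 6 + 1)) := by
  intro h
  rcases hs.prime.dvd_mul.1 h with h | h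
  · exact hs.not_dvd_pow _ h
  rcases hs.prime.dvd_mul.1 h with h | h
  · rcases hs.prime.dvd_mul.1 h with h | h
    · rcases hs.prime.dvd_mul.1 h with h | h
      · rw [← pow_one q, hs.dvd_iff] at h
        norm_num at h
      · exact not_dvd_add_odd hs (by norm_num) (by norm_num) _ h
    · rw [hs.dvd_iff] at h
      norm_num at h
  · exact not_dvd_add_odd hs (by norm_num) (by norm_num) _ h

/-- **`T = PΩ^+_8(q)`, `q ≠ 2`**, exponents 6, 3. -/
theorem cp_oplus4 (hp : p.Prime) (hf : 1 ≤ f) (hex1 : ¬ (p = 2 ∧ f * 6 = 6)) (hg : Cond g)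
    (hch : HasChar p g) (hc : den g * c = num g)
    (hdvd : c ∣ (p ^ f) ^ (4 * (4 - 1)) * (((p ^ f) ^ 4 - 1) * prB (p ^ f) (4 - 1)))
    (hs1 : HSN p f 6 g c) (hs2 : HSN p f 3 g c) :
    g = .oplus 4 (p ^ f) ∨ g = .oodd 3 (p ^ f) ∨ g = .psp 3 (p ^ f) ∨ g = .g2 (p ^ f) ∨ g = .psl 3 (p ^ (2 * f)) ∨
      g = .psl 2 (p ^ (3 * f)) ∨ (p ^ f = 4 ∧ g = .sz 8) := by
  obtain ⟨f₁, hf₁, hfl, hK, hY⟩ := kd_all hp hg hch hc
  have hT := td_oplus hp hf (by omega) hdvd
  have hM2 := two_le_Mg hg hch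
  have hb : f₁ ≤ f * 6 := f1_le hp hf₁ hT hK hY hM2 (show 3 ≤ f * 6 by omega)
  obtain ⟨h1, h2, h3, h4⟩ := comp hp hf hf₁ hT hK (show 3 ≤ f * 6 by omega) hex1
    (fun s hs => hs1.big hp hf hf₁ hfl hb hs) hY (by
    intro hp2 h6 h5
    have : f * 6 ≤ 5 := h5
    omega)
  have h1' : f₁ * Mg g = f * 6 := h1
  have h2' : ag g * 6 ≤ 12 * Mg g := h2
  have hA : ag g ≤ 2 * Mg g := by omega
  -- the exponents of `g`
  have h4' : ∀ e, Yg g e → 3 ≤ f₁ * e → f₁ * e ≠ 6 → 6 * e ∣ Mg g * 2 ∨ 6 * e ∣ Mg g * 4 ∨ 6 * e ∣ Mg g * 6 := by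
    intro e he he3 he6
    obtain ⟨i, ⟨hi1, hi2, hi3⟩, hi⟩ := h4 e he he3 (fun h => he6 h.2)
    have hi4 : 6 * e ∣ Mg g * i := hi
    have hi5 : i ≤ 6 := hi2
    have : i = 2 ∨ i = 4 ∨ i = 6 := by omega
    rcases this with rfl | rfl | rfl
    · exact Or.inl hi4
    · exact Or.inr (Or.inl hi4)
    · exact Or.inr (Or.inr hi4)
  have hq2 : 2 ≤ p ^ f := (hp.two_le).trans (Nat.le_self_pow (by omega) _)
  cases g
  case psl m q =>
    obtain ⟨hm, -, -⟩ := hg
    have hq : q = p ^ f₁ := hfl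
    have h5 : m * (m - 1) / 2 ≤ 2 * m := hA
    have h6 : m * (m - 1) ≤ 4 * m := by
      have := two_half m
      omega
    have h7 : m - 1 ≤ 4 := by
      rw [mul_comm 4] at h6
      exact Nat.le_of_mul_le_mul_left h6 (by omega)
    have h8 : f₁ * m = f * 6 := h1'
    have h9 : m = 2 ∨ m = 3 ∨ m = 4 ∨ m = 5 := by omega
    rcases h9 with rfl | rfl | rfl | rfl
    · exact Or.inr (Or.inr (Or.inr (Or.inr (Or.inr (Or.inl (by rw [hq, show f₁ = 3 * f by omega]))))))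
    · exact Or.inr (Or.inr (Or.inr (Or.inr (Or.inl (by rw [hq, show f₁ = 2 * f by omega])))))
    · exfalso
      have h10 : 6 * 3 ∣ 4 * 2 ∨ 6 * 3 ∣ 4 * 4 ∨ 6 * 3 ∣ 4 * 6 := h4' 3 ⟨by norm_num, by norm_num⟩ (by omega) (by omega)
      omega
    · exfalso
      have h10 : 6 * 4 ∣ 5 * 2 ∨ 6 * 4 ∣ 5 * 4 ∨ 6 * 4 ∣ 5 * 6 := h4' 4 ⟨by norm_num, by norm_num⟩ (by omega) (by omega)
      omega
  case psp m q =>
    obtain ⟨hm, -, -⟩ := hg
    have hq : q = p ^ f₁ := hfl
    have h5 : m ^ 2 ≤ 2 * (2 * m) := hA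
    have h7 : m ≤ 4 := by nlinarith
    have h8 : f₁ * (2 * m) = f * 6 := h1'
    have h9 : m = 2 ∨ m = 3 ∨ m = 4 := by omega
    rcases h9 with rfl | rfl | rfl
    · exfalso
      have hfe : 2 ≤ f := by omega
      have hx : 4 ≤ p ^ f := by
        calc 4 = 2 ^ 2 := rfl
          _ ≤ p ^ 2 := Nat.pow_le_pow_left hp.two_le 2
          _ ≤ p ^ f := Nat.pow_le_pow_right hp.pos hfe
      refine psp2_false (q := q) hx ?_ (Nat.gcd_dvd_left 2 (q - 1)) hc hdvd
      rw [hq, ← pow_mul, ← pow_mul]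
      congr 1
      omega
    · exact Or.inr (Or.inr (Or.inl (by rw [hq, show f₁ = f by omega])))
    · exfalso
      have h10 : 6 * 6 ∣ (2 * 4) * 2 ∨ 6 * 6 ∣ (2 * 4) * 4 ∨ 6 * 6 ∣ (2 * 4) * 6 :=
        h4' 6 ⟨by norm_num, by norm_num, by norm_num⟩ (by omega) (by omega)
      omega
  case oodd m q =>
    obtain ⟨hm, -, -⟩ := hg
    have hq : q = p ^ f₁ := hfl
    have h5 : m ^ 2 ≤ 2 * (2 * m) := hA
    have h7 : m ≤ 4 := by nlinarith
    have h8 : f₁ * (2 * m) = f * 6 := h1'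
    have h9 : m = 3 ∨ m = 4 := by omega
    rcases h9 with rfl | rfl
    · exact Or.inr (Or.inl (by rw [hq, show f₁ = f by omega]))
    · exfalso
      have h10 : 6 * 6 ∣ (2 * 4) * 2 ∨ 6 * 6 ∣ (2 * 4) * 4 ∨ 6 * 6 ∣ (2 * 4) * 6 :=
        h4' 6 ⟨by norm_num, by norm_num, by norm_num⟩ (by omega) (by omega)
      omega
  case psu m q =>
    exfalso
    obtain ⟨hm, -, -⟩ := hg
    have hq : q = p ^ f₁ := hfl
    have h5 : m * (m - 1) / 2 ≤ 2 * (2 * (if m % 2 = 0 then m - 1 else m)) := hA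
    have h6 : m * (m - 1) ≤ 8 * (if m % 2 = 0 then m - 1 else m) := by
      have := two_half m
      omega
    have h8 : f₁ * (2 * (if m % 2 = 0 then m - 1 else m)) = f * 6 := h1'
    have h9 : m ≤ 9 := by
      by_cases h0 : m % 2 = 0
      · rw [if_pos h0] at h6
        have : (m - 1) * m ≤ (m - 1) * 8 := by nlinarith
        have := Nat.le_of_mul_le_mul_left this (by omega)
        omega
      · rw [if_neg h0] at h6
        have : m * (m - 1) ≤ m * 8 := by nlinarith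
        have := Nat.le_of_mul_le_mul_left this (by omega)
        omega
    have key : ∀ e, e ∈ [6, 14] → (e = 6 ∨ m = 9) →
        3 ≤ f₁ * e → f₁ * e ≠ 6 → 6 * e ∣ (2 * (if m % 2 = 0 then m - 1 else m)) * 2 ∨
        6 * e ∣ (2 * (if m % 2 = 0 then m - 1 else m)) * 4 ∨ 6 * e ∣ (2 * (if m % 2 = 0 then m - 1 else m)) * 6 := by
      intro e he hor
      refine h4' e ?_
      show 3 ≤ e ∧ ((e ≤ m ∧ e % 2 = 0) ∨ ∃ j, e = 2 * j ∧ j ≤ m ∧ j % 2 = 1)
      simp only [List.mem_cons, List.not_mem_nil, or_false] at he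
      rcases he with rfl | rfl
      · exact ⟨by norm_num, Or.inr ⟨3, rfl, hm, rfl⟩⟩
      · exact ⟨by norm_num, Or.inr ⟨7, rfl, by omega, rfl⟩⟩
    have hex3 : ∀ m', (m' = 3 ∨ m' = 4) → m = m' → f₁ = f → False := by
      intro m' hm' hmm hff
      obtain ⟨s, hs, hs'⟩ := ex_primN hp hf hf₁ (by norm_num) (by norm_num) hc hfl (by omega) hs2
      have h10 : s ∣ q ^ (m * (m - 1) / 2) * prU q m := hs'
      rw [hq, hff] at h10
      refine not_dvd_psu_odd hs (by norm_num) (by norm_num) (fun i hi1 hi2 hi3 hi4 => ?_) h10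
      have : i ≤ 4 := by omega
      interval_cases i <;> omega
    interval_cases m
    · rw [if_neg (by norm_num)] at h8
      exact hex3 3 (Or.inl rfl) rfl (by omega)
    · rw [if_pos (by norm_num)] at h8
      exact hex3 4 (Or.inr rfl) rfl (by omega)
    · rw [if_neg (by norm_num)] at h8
      have := key 6 (by decide) (Or.inl rfl) (by omega) (by omega)
      rw [if_neg (by norm_num)] at this
      omega
    · rw [if_pos (by norm_num)] at h8
      have := key 6 (by decide) (Or.inl rfl) (by omega) (by omega)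
      rw [if_pos (by norm_num)] at this
      omega
    · rw [if_neg (by norm_num)] at h8
      have := key 6 (by decide) (Or.inl rfl) (by omega) (by omega)
      rw [if_neg (by norm_num)] at this
      omega
    · rw [if_pos (by norm_num)] at h8
      have := key 6 (by decide) (Or.inl rfl) (by omega) (by omega)
      rw [if_pos (by norm_num)] at this
      omega
    · rw [if_neg (by norm_num)] at h8
      have := key 14 (by decide) (Or.inr rfl) (by omega) (by omega)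
      rw [if_neg (by norm_num)] at this
      omega
  case oplus m q =>
    obtain ⟨hm, -⟩ := hg
    have hq : q = p ^ f₁ := hfl
    have h6 : m * (m - 1) ≤ 2 * (2 * (m - 1)) := hA
    have h7 : m ≤ 4 := by
      have : (m - 1) * m ≤ (m - 1) * 4 := by nlinarith
      exact Nat.le_of_mul_le_mul_left this (by omega)
    obtain rfl : m = 4 := by omega
    have h8 : f₁ * (2 * (4 - 1)) = f * 6 := h1'
    exact Or.inl (by rw [hq, show f₁ = f by omega])
  case ominus m q =>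
    exfalso
    obtain ⟨hm, -⟩ := hg
    have hq : q = p ^ f₁ := hfl
    have h6 : m * (m - 1) ≤ 2 * (2 * m) := hA
    have h7 : m - 1 ≤ 4 := by
      have : m * (m - 1) ≤ m * 4 := by nlinarith
      exact Nat.le_of_mul_le_mul_left this (by omega)
    have h8 : f₁ * (2 * m) = f * 6 := h1'
    have h9 : m = 4 ∨ m = 5 := by omega
    rcases h9 with rfl | rfl
    · have h10 : 6 * 6 ∣ (2 * 4) * 2 ∨ 6 * 6 ∣ (2 * 4) * 4 ∨ 6 * 6 ∣ (2 * 4) * 6 :=
        h4' 6 ⟨by norm_num, by norm_num, by norm_num⟩ (by omega) (by omega)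
      omega
    · have h10 : 6 * 6 ∣ (2 * 5) * 2 ∨ 6 * 6 ∣ (2 * 5) * 4 ∨ 6 * 6 ∣ (2 * 5) * 6 :=
        h4' 6 ⟨by norm_num, by norm_num, by norm_num⟩ (by omega) (by omega)
      omega
  case g2 q =>
    have hq : q = p ^ f₁ := hfl
    have h8 : f₁ * 6 = f * 6 := h1'
    exact Or.inr (Or.inr (Or.inr (Or.inl (by rw [hq, show f₁ = f by omega]))))
  case f4 q =>
    exfalso
    have hq : q = p ^ f₁ := hfl
    have h7 : f₁ * 12 = f * 6 := h1'
    have h8 : f = 2 * f₁ := by omega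
    have h9 : 1 * c = q ^ 24 * ((q ^ 2 - 1) * (q ^ 6 - 1) * (q ^ 8 - 1) * (q ^ 12 - 1)) := hc
    obtain ⟨x, hx⟩ : ∃ x, x = q ^ 2 := ⟨_, rfl⟩
    have hx2 : p ^ f = x := by rw [hx, hq, h8, ← pow_mul, mul_comm]
    rw [hx2, prB_three] at hdvd
    rw [one_mul, show q ^ 24 = x ^ 12 by rw [hx]; ring, show q ^ 6 = x ^ 3 by rw [hx]; ring,
      show q ^ 8 = x ^ 4 by rw [hx]; ring, show q ^ 12 = x ^ 6 by rw [hx]; ring, ← hx] at h9
    rw [h9] at hdvd
    have hx3 : 2 ≤ x := hx2 ▸ hq2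
    have hpos : ∀ k, 1 ≤ k → 0 < x ^ k - 1 := fun k hk => by
      have : 1 < x ^ k := Nat.one_lt_pow (by omega) (by omega)
      omega
    have h11 : (x ^ 12 * (x ^ 4 - 1) * (x ^ 6 - 1)) * ((x - 1) * (x ^ 3 - 1)) ∣
        (x ^ 12 * (x ^ 4 - 1) * (x ^ 6 - 1)) * ((x ^ 2 - 1) * (x ^ 4 - 1)) := by
      obtain ⟨k, hk⟩ := hdvd
      refine ⟨k, ?_⟩
      calc (x ^ 12 * (x ^ 4 - 1) * (x ^ 6 - 1)) * ((x ^ 2 - 1) * (x ^ 4 - 1)) =
          x ^ (4 * (4 - 1)) * ((x ^ 4 - 1) * ((x ^ 2 - 1) * (x ^ 4 - 1) * (x ^ 6 - 1))) := by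
            norm_num only
            ring
        _ = _ := hk
        _ = _ := by ring
    have h12 := Nat.dvd_of_mul_dvd_mul_left (Nat.mul_pos (Nat.mul_pos (by positivity) (hpos 4 (by norm_num)))
      (hpos 6 (by norm_num))) h11
    exact f4_dvd hx3 h12
  case e6 q => exact absurd (show 36 ≤ 2 * 12 from hA) (by norm_num)
  case e7 q => exact absurd (show 63 ≤ 2 * 18 from hA) (by norm_num)
  case e8 q => exact absurd (show 120 ≤ 2 * 30 from hA) (by norm_num)
  case te6 q =>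
    exfalso
    have h8 : f₁ * 18 = f * 6 := h1'
    have h10 : 6 * 10 ∣ 18 * 2 ∨ 6 * 10 ∣ 18 * 4 ∨ 6 * 10 ∣ 18 * 6 :=
      h4' 10 (by show 10 ∈ _; decide) (by omega) (by omega)
    omega
  case td4 q =>
    exfalso
    have hq : q = p ^ f₁ := hfl
    have h7 : f₁ * 12 = f * 6 := h1'
    have hx : q ^ 2 = p ^ f := by
      rw [hq, ← pow_mul]
      congr 1
      omega
    exact td4x_false hq2 hx hc hdvd
  case sz q =>
    have hq : q = p ^ f₁ := hfl
    have h7 : f₁ * 4 = f * 6 := h1'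
    obtain ⟨m, hm, hm2⟩ := hg
    have hp2 : p = 2 := by
      have h8 : p ∣ 2 ^ (2 * m + 1) := by
        rw [← hm2, hq]
        exact dvd_pow_self p (by omega)
      exact (Nat.prime_dvd_prime_iff_eq hp Nat.prime_two).1 (hp.dvd_of_dvd_pow h8)
    subst hp2
    have hfm : f₁ = 2 * m + 1 := Nat.pow_right_injective (le_refl 2) (hq.symm.trans hm2)
    by_cases hf2 : f = 2
    · subst hf2
      right; right; right; right; right; right
      refine ⟨by norm_num, ?_⟩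
      rw [hq, show f₁ = 3 by omega]
      norm_num
    · exfalso
      obtain ⟨s, hs⟩ := exists_prim (q := 2) (e := f * 3) le_rfl (by omega) (by omega)
      have hlt := lt_of_prim hs
      have h8 : s ∣ c := hs2.big hp hf hf₁ hfl (by omega) hs
      have h9 : 1 * c = q ^ 2 * ((q - 1) * (q ^ 2 + 1)) := hc
      rw [one_mul] at h9
      rw [h9, hq] at h8
      rcases hs.prime.dvd_mul.1 h8 with h10 | h10
      · rw [← pow_mul] at h10
        exact hs.not_dvd_pow _ h10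
      rcases hs.prime.dvd_mul.1 h10 with h11 | h11
      · rw [hs.dvd_iff] at h11
        have := Nat.le_of_dvd (by omega) h11
        omega
      · rw [← pow_mul, show f₁ * 2 = f * 3 by omega] at h11
        have h12 : s ∣ 2 ^ (f * 3) - 1 := hs.dvd dvd_rfl
        have h13 := Nat.dvd_sub h11 h12
        have h14 : 1 ≤ 2 ^ (f * 3) := Nat.one_le_two_pow
        rw [show 2 ^ (f * 3) + 1 - (2 ^ (f * 3) - 1) = 2 by omega] at h13
        have := Nat.le_of_dvd (by norm_num) h13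
        omega
  case ree q =>
    exfalso
    have hq : q = p ^ f₁ := hfl
    have h7 : f₁ * 6 = f * 6 := h1'
    obtain ⟨s, hs, hs'⟩ := ex_primN hp hf hf₁ (by norm_num) (by norm_num) hc hfl (by omega) hs2
    have h10 : s ∣ q ^ 3 * ((q - 1) * (q ^ 3 + 1)) := hs'
    rw [hq, show f₁ = f by omega] at h10
    rcases hs.prime.dvd_mul.1 h10 with h11 | h11
    · exact hs.not_dvd_pow _ h11
    rcases hs.prime.dvd_mul.1 h11 with h12 | h12
    · rw [← pow_one (p ^ f), hs.dvd_iff] at h12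
      norm_num at h12
    · exact not_dvd_add_odd hs (by norm_num) (by norm_num) _ h12
  case tf4 q =>
    exfalso
    have hq : q = p ^ f₁ := hfl
    have h7 : f₁ * 12 = f * 6 := h1'
    have h8 : f = 2 * f₁ := by omega
    obtain ⟨m, hm, hm2⟩ := hg
    have hp2 : p = 2 := by
      have h8 : p ∣ 2 ^ (2 * m + 1) := by
        rw [← hm2, hq]
        exact dvd_pow_self p (by omega)
      exact (Nat.prime_dvd_prime_iff_eq hp Nat.prime_two).1 (hp.dvd_of_dvd_pow h8)
    subst hp2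
    have hfm : f₁ = 2 * m + 1 := Nat.pow_right_injective (le_refl 2) (hq.symm.trans hm2)
    obtain ⟨s, hs0⟩ := exists_prim (q := 2) (e := f₁ * 3) le_rfl (by omega) (by omega)
    have hs := prim_pow hf₁ hs0
    have hlt := lt_of_prim hs0
    have hs' : Prim (2 ^ f) 3 s := by
      refine ⟨hs.prime, fun k => ?_, fun h => ?_⟩
      · rw [h8, mul_comm 2 f₁, pow_mul, ← pow_mul, hs.dvd_iff]
        exact ⟨fun h => (show Nat.Coprime 3 2 by norm_num).dvd_of_dvd_mul_left h, fun h => h.mul_left _⟩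
      · rw [h8, mul_comm 2 f₁, pow_mul] at h
        exact hs.not_dvd_pow _ h
    have h9 : s ∣ den (.tf4 q) * c := (hs2.mem hp hf hf₁ hfl hs' (by omega) (by omega)).mul_left _
    rw [hc, hq] at h9
    exact not_dvd_tf4 hs h9
  all_goals exact absurd hch not_false

end Cfsg.Agent.H358.Cyc
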