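import Mathlib
import Cfsg.Agent.H358.Cyc.CharP
import Cfsg.Agent.H358.Cyc.CharP3

/-!
# Cyclic primes, same characteristic (helper358, for S3679 and S3561): the small groups `L4(4)`, `L7(2)`, `S8(2)`,
`Ω8^-(2)`, `Ω10^+(2)`
-/

set_option autoImplicit false

namespace Cfsg.Agent.H358.Cyc

open Cfsg.Agent.OrdDiv Cfsg.Agent.H436 Cfsg.Agent.H915.GN Cfsg.Agent.H264.GN Cfsg.Agent.H264.FKS

variable {p f c f₁ : ℕ} {g : Grp}

theorem prim_two_three : Prim 2 3 7 := by
  have h := prim_four_three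
  refine ⟨by norm_num, fun k => ?_, by norm_num⟩
  constructor
  · intro h1
    have h2 : 7 ∣ 4 ^ k - 1 := by
      rw [show (4 : ℕ) = 2 ^ 2 by norm_num, ← pow_mul, mul_comm 2 k, pow_mul]
      exact h1.trans (by simpa using Nat.sub_dvd_pow_sub_pow (2 ^ k) 1 2)
    exact (h.dvd_iff k).1 h2
  · rintro ⟨m, rfl⟩
    rw [pow_mul]
    have := Nat.sub_dvd_pow_sub_pow (2 ^ 3) 1 m
    rw [one_pow] at this
    exact Dvd.dvd.trans (by norm_num) this

theorem field_two (h : p ^ f = 2) : p = 2 ∧ f = 1 := by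
  have h1 : f ≠ 0 := by
    rintro rfl
    norm_num at h
  have h2 : p ∣ 2 := by rw [← h]; exact dvd_pow_self p h1
  have h3 : p ≤ 2 := Nat.le_of_dvd (by norm_num) h2
  have h4 : p ≠ 0 := by
    rintro rfl
    rw [zero_pow h1] at h
    omega
  have h5 : p ≠ 1 := by
    rintro rfl
    rw [one_pow] at h
    omega
  obtain rfl : p = 2 := by omega
  refine ⟨rfl, ?_⟩
  have h6 : (2 : ℕ) ^ f = 2 ^ 1 := by rw [h]; norm_num
  exact Nat.pow_right_injective (le_refl 2) h6

theorem field_four (h : p ^ f = 4) (hp : p.Prime) (hf : f ≠ 1) : p = 2 ∧ f = 2 := by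
  have h1 : f ≠ 0 := by
    rintro rfl
    norm_num at h
  have h2 : p ∣ 2 ^ 2 := by
    rw [show 2 ^ 2 = 4 from rfl, ← h]
    exact dvd_pow_self p h1
  have h3 : p = 2 := (Nat.prime_dvd_prime_iff_eq hp Nat.prime_two).1 (hp.dvd_of_dvd_pow h2)
  subst h3
  refine ⟨rfl, ?_⟩
  have h6 : (2 : ℕ) ^ f = 2 ^ 2 := by rw [h]; norm_num
  exact Nat.pow_right_injective (le_refl 2) h6

/-- the names with `f₁ M = 8`, `p = 2` -/
theorem m_eight (hg : Cond g) (hch : HasChar 2 g) (hf₁ : 1 ≤ f₁) (hfl : fld g = 2 ^ f₁) (h : f₁ * Mg g = 8) :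
    g = .psl 2 16 ∨ g = .psl 4 4 ∨ g = .psl 8 2 ∨ g = .psp 2 4 ∨ g = .psp 4 2 ∨ g = .oplus 5 2 ∨ g = .ominus 4 2 := by
  have hf8 : f₁ ∣ 8 := ⟨_, h.symm⟩
  have hf8' : f₁ ≤ 8 := Nat.le_of_dvd (by norm_num) hf8
  have h18 : f₁ = 1 ∨ f₁ = 2 ∨ f₁ = 4 ∨ f₁ = 8 := by
    interval_cases f₁ <;> omega
  cases g
  case psl m q =>
    obtain ⟨hm, -, -⟩ := hg
    have hq : q = 2 ^ f₁ := hfl
    have h' : f₁ * m = 8 := h
    rcases h18 with rfl | rfl | rfl | rfl
    · obtain rfl : m = 8 := by omega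
      rw [hq]; norm_num
    · obtain rfl : m = 4 := by omega
      rw [hq]; norm_num
    · obtain rfl : m = 2 := by omega
      rw [hq]; norm_num
    · omega
  case psp m q =>
    obtain ⟨hm, -, -⟩ := hg
    have hq : q = 2 ^ f₁ := hfl
    have h' : f₁ * (2 * m) = 8 := h
    rcases h18 with rfl | rfl | rfl | rfl
    · obtain rfl : m = 4 := by omega
      rw [hq]; norm_num
    · obtain rfl : m = 2 := by omega
      rw [hq]; norm_num
    · omega
    · omega
  case psu m q =>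
    exfalso
    obtain ⟨hm, -, -⟩ := hg
    have h' : f₁ * (2 * (if m % 2 = 0 then m - 1 else m)) = 8 := h
    split_ifs at h' <;> rcases h18 with rfl | rfl | rfl | rfl <;> omega
  case oodd m q =>
    exfalso
    obtain ⟨hm, ho, -⟩ := hg
    have hq : q = 2 ^ f₁ := hfl
    rw [hq, Nat.odd_pow_iff (by omega)] at ho
    exact absurd ho (by decide)
  case oplus m q =>
    obtain ⟨hm, -⟩ := hg
    have hq : q = 2 ^ f₁ := hfl
    have h' : f₁ * (2 * (m - 1)) = 8 := h
    rcases h18 with rfl | rfl | rfl | rfl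
    · obtain rfl : m = 5 := by omega
      rw [hq]; norm_num
    all_goals omega
  case ominus m q =>
    obtain ⟨hm, -⟩ := hg
    have hq : q = 2 ^ f₁ := hfl
    have h' : f₁ * (2 * m) = 8 := h
    rcases h18 with rfl | rfl | rfl | rfl
    · obtain rfl : m = 4 := by omega
      rw [hq]; norm_num
    all_goals omega
  case g2 q =>
    have h' : f₁ * 6 = 8 := h
    omega
  case f4 q =>
    have h' : f₁ * 12 = 8 := h
    omega
  case e6 q =>
    have h' : f₁ * 12 = 8 := h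
    omega
  case e7 q =>
    have h' : f₁ * 18 = 8 := h
    omega
  case e8 q =>
    have h' : f₁ * 30 = 8 := h
    omega
  case te6 q =>
    have h' : f₁ * 18 = 8 := h
    omega
  case td4 q =>
    have h' : f₁ * 12 = 8 := h
    omega
  case sz q =>
    exfalso
    have h' : f₁ * 4 = 8 := h
    obtain ⟨m, hm, hm2⟩ := hg
    have hq : q = 2 ^ f₁ := hfl
    have hfm : f₁ = 2 * m + 1 := Nat.pow_right_injective (le_refl 2) (hq.symm.trans hm2)
    omega
  case ree q =>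
    have h' : f₁ * 6 = 8 := h
    omega
  case tf4 q =>
    have h' : f₁ * 12 = 8 := h
    omega
  all_goals exact absurd hch not_false

theorem num_psl2 : num (.psl 2 16) = 61200 := by
  show glN 2 16 = _
  rw [glN_eq]
  norm_num [Finset.prod_range_succ]

theorem num_psl4 : num (.psl 4 4) = 4 ^ 6 * (3 * 15 * 63 * 255) := by
  show glN 4 4 = _
  rw [glN_eq]
  norm_num [Finset.prod_range_succ]

theorem num_psp2 : num (.psp 2 4) = 4 ^ 4 * (15 * 255) := by
  show 4 ^ (2 ^ 2) * prB 4 2 = _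
  rw [prB_eq]
  norm_num [Finset.prod_range_succ]

theorem num_psp4 : num (.psp 4 2) = 2 ^ 16 * (3 * 15 * 63 * 255) := by
  show 2 ^ (4 ^ 2) * prB 2 4 = _
  rw [prB_eq]
  norm_num [Finset.prod_range_succ]

theorem num_ominus4 : num (.ominus 4 2) = 2 ^ 12 * (17 * (3 * 15 * 63)) := by
  show 2 ^ (4 * (4 - 1)) * ((2 ^ 4 + 1) * prB 2 (4 - 1)) = _
  rw [prB_eq]
  norm_num [Finset.prod_range_succ]

/-- common part: `f M_T = 8`, `p = 2` -/
theorem eight {XT : ℕ → Prop} {aT f MT : ℕ} (hf : 1 ≤ f) (hT : TD 2 f c XT MT aT) (h8 : f * MT = 8) (hg : Cond g)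
    (hch : HasChar 2 g) (hc : den g * c = num g) (hs1 : HSN 2 f MT g c) {e s : ℕ} (hs2 : HSN 2 f e g c)
    (hs : Prim (2 ^ f) e s) (hs7 : 7 ≤ s) (hfs : ¬ s ∣ f) :
    s ∣ c ∧ ag g * MT ≤ aT * Mg g ∧ (g = .psl 2 16 ∨ g = .psl 4 4 ∨ g = .psl 8 2 ∨ g = .psp 2 4 ∨ g = .psp 4 2 ∨
      g = .oplus 5 2 ∨ g = .ominus 4 2) := by
  obtain ⟨f₁, hf₁, hfl, hK, hY⟩ := kd_all Nat.prime_two hg hch hc
  have hM2 := two_le_Mg hg hch
  have hb := f1_le Nat.prime_two hf₁ hT hK hY hM2 (by omega)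
  obtain ⟨h1, h2, -, -⟩ := comp Nat.prime_two hf hf₁ hT hK (by omega) (by omega)
    (fun s hs => hs1.big Nat.prime_two hf hf₁ hfl hb hs) hY (by
    intro hp2 h6 h5
    omega)
  rw [h8] at h1
  refine ⟨hs2.mem' Nat.prime_two hfl hs hfs fun hd => ?_, h2, m_eight hg hch hf₁ hfl h1⟩
  have h3 : f₁ * 2 ≤ f₁ * Mg g := Nat.mul_le_mul_left _ hM2
  have h4 := Nat.le_of_dvd (by omega) hd
  omega

theorem dvd_num {s : ℕ} (hc : den g * c = num g) (h : s ∣ c) : s ∣ num g := by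
  rw [← hc]
  exact h.mul_left _

/-- **`T = PSL_n(q)`, `n ≥ 4`, not `L4(2)`, `L6(2)`.** -/
theorem cpl_psl (hp : p.Prime) (hf : 1 ≤ f) {n : ℕ} (hn : 4 ≤ n) (h42 : ¬ (n = 4 ∧ p ^ f = 2))
    (h62 : ¬ (n = 6 ∧ p ^ f = 2)) (hg : Cond g) (hch : HasChar p g)
    (hc : den g * c = num g) (hdvd : c ∣ glN n (p ^ f)) (hs1 : HSN p f n g c) (hs2 : HSN p f (n - 1) g c) :
    g = .psl n (p ^ f) ∨ ∃ f₁, 2 * f₁ = f ∧ n % 2 = 0 ∧ g = .ominus n (p ^ f₁) := by
  by_cases hex1 : p = 2 ∧ f * n = 6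
  · exfalso
    obtain ⟨rfl, h⟩ := hex1
    have hf1 : f = 1 := by
      by_contra h1
      have : 2 * n ≤ f * n := Nat.mul_le_mul_right _ (by omega)
      omega
    subst hf1
    exact h62 ⟨by omega, by norm_num⟩
  by_cases hex2 : p = 2 ∧ f * (n - 1) = 6
  · obtain ⟨rfl, h⟩ := hex2
    have hf2 : f = 1 ∨ f = 2 := by
      by_contra h1
      have : 3 * (n - 1) ≤ f * (n - 1) := Nat.mul_le_mul_right _ (by omega)
      omega
    rcases hf2 with rfl | rfl
    · -- `L7(2)`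
      obtain rfl : n = 7 := by omega
      left
      obtain ⟨f₁, hf₁, hfl, hK, hY⟩ := kd_all hp hg hch hc
      have hT := td_psl hp hf hdvd
      have hM2 := two_le_Mg hg hch
      have hb := f1_le hp hf₁ hT hK hY hM2 (by omega)
      obtain ⟨h1, -, -, -⟩ := comp hp hf hf₁ hT hK (by omega) hex1
        (fun s hs => hs1.big hp hf hf₁ hfl hb hs) hY (by
        intro hp2 h6 h5
        omega)
      have hM7 : Mg g = 7 ∧ f₁ = 1 := by
        have h2 : f₁ ∣ 7 := ⟨Mg g, by rw [h1]⟩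
        rcases (Nat.dvd_prime (by norm_num)).1 h2 with rfl | rfl
        · exact ⟨by omega, rfl⟩
        · omega
      obtain ⟨hM7, rfl⟩ := hM7
      cases g
      case psl m q =>
        obtain rfl : m = 7 := hM7
        have hq : q = 2 ^ 1 := hfl
        rw [hq]
      case psp m q =>
        have h' : 2 * m = 7 := hM7
        omega
      case psu m q =>
        have h' : 2 * (if m % 2 = 0 then m - 1 else m) = 7 := hM7
        omega
      case oodd m q =>
        have h' : 2 * m = 7 := hM7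
        omega
      case oplus m q =>
        have h' : 2 * (m - 1) = 7 := hM7
        omega
      case ominus m q =>
        have h' : 2 * m = 7 := hM7
        omega
      case g2 q => exact absurd (show (6 : ℕ) = 7 from hM7) (by norm_num)
      case f4 q => exact absurd (show (12 : ℕ) = 7 from hM7) (by norm_num)
      case e6 q => exact absurd (show (12 : ℕ) = 7 from hM7) (by norm_num)
      case e7 q => exact absurd (show (18 : ℕ) = 7 from hM7) (by norm_num)
      case e8 q => exact absurd (show (30 : ℕ) = 7 from hM7) (by norm_num)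
      case te6 q => exact absurd (show (18 : ℕ) = 7 from hM7) (by norm_num)
      case td4 q => exact absurd (show (12 : ℕ) = 7 from hM7) (by norm_num)
      case sz q => exact absurd (show (4 : ℕ) = 7 from hM7) (by norm_num)
      case ree q => exact absurd (show (6 : ℕ) = 7 from hM7) (by norm_num)
      case tf4 q => exact absurd (show (12 : ℕ) = 7 from hM7) (by norm_num)
      all_goals exact absurd hch not_false
    · -- `L4(4)`
      obtain rfl : n = 4 := by omega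
      obtain ⟨h7, h2, h3⟩ := eight (by norm_num) (td_psl hp hf hdvd) (by norm_num) hg hch hc hs1 (e := 3) hs2
        (s := 7) (by norm_num; exact prim_four_three) le_rfl (by norm_num)
      have h7' := dvd_num hc h7
      rcases h3 with rfl | rfl | rfl | rfl | rfl | rfl | rfl
      · rw [num_psl2] at h7'
        norm_num at h7'
      · left; norm_num
      · exact absurd (show 8 * (8 - 1) / 2 * 4 ≤ 4 * (4 - 1) / 2 * 8 from h2) (by norm_num)
      · rw [num_psp2] at h7'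
        norm_num at h7'
      · exact absurd (show 4 ^ 2 * 4 ≤ 4 * (4 - 1) / 2 * (2 * 4) from h2) (by norm_num)
      · exact absurd (show 5 * (5 - 1) * 4 ≤ 4 * (4 - 1) / 2 * (2 * (5 - 1)) from h2) (by norm_num)
      · right
        exact ⟨1, by norm_num, by norm_num, by norm_num⟩
  · exact cp_psl hp hf hn h42 hex1 hex2 hg hch hc hdvd hs1 hs2

/-- **`T = PSp_2n(q)` or `Ω_{2n+1}(q)`, `n ≥ 3`, not `S6(2)`.** -/
theorem cpl_psp (hp : p.Prime) (hf : 1 ≤ f) {n : ℕ} (hn : 3 ≤ n)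
    (h32 : ¬ (n = 3 ∧ p ^ f = 2)) (hg : Cond g) (hch : HasChar p g)
    (hc : den g * c = num g) (hdvd : c ∣ (p ^ f) ^ (n ^ 2) * prB (p ^ f) n)
    (hs1 : HSN p f (2 * n) g c) (hs2 : HSN p f (2 * (n - 1)) g c) (hs3 : n = 4 → p ^ f = 2 → HSN p f 3 g c) :
    g = .psp n (p ^ f) ∨ g = .oodd n (p ^ f) ∨ g = .psl n (p ^ (2 * f)) ∨ g = .ominus n (p ^ f) ∨
      (n = 3 ∧ g = .psu 4 (p ^ f)) := by
  have h2n : f * (2 * n) = 2 * (f * n) := by ring
  by_cases hex1 : p = 2 ∧ f * (2 * n) = 6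
  · exfalso
    obtain ⟨rfl, h⟩ := hex1
    have hf1 : f = 1 := by
      by_contra h1
      have : 2 * n ≤ f * n := Nat.mul_le_mul_right _ (by omega)
      omega
    subst hf1
    exact h32 ⟨by omega, by norm_num⟩
  by_cases hex2 : p = 2 ∧ f * (2 * (n - 1)) = 6
  · obtain ⟨rfl, h⟩ := hex2
    have hf1 : f = 1 := by
      by_contra h1
      have : 2 * (2 * (n - 1)) ≤ f * (2 * (n - 1)) := Nat.mul_le_mul_right _ (by omega)
      omega
    subst hf1
    obtain rfl : n = 4 := by omega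
    obtain ⟨h7, h2, h3⟩ := eight (by norm_num) (td_psp hp hf hdvd) (by norm_num) hg hch hc hs1 (e := 3)
        (hs3 rfl (by norm_num)) (s := 7) (by norm_num; exact prim_two_three) le_rfl (by norm_num)
    have h7' := dvd_num hc h7
    rcases h3 with rfl | rfl | rfl | rfl | rfl | rfl | rfl
    · rw [num_psl2] at h7'
      norm_num at h7'
    · right; right; left; norm_num
    · exact absurd (show 8 * (8 - 1) / 2 * (2 * 4) ≤ 4 ^ 2 * 8 from h2) (by norm_num)
    · rw [num_psp2] at h7'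
      norm_num at h7'
    · left; norm_num
    · exact absurd (show 5 * (5 - 1) * (2 * 4) ≤ 4 ^ 2 * (2 * (5 - 1)) from h2) (by norm_num)
    · right; right; right; left; norm_num
  · exact cp_psp hp hf hn hex1 hex2 hg hch hc hdvd hs1 hs2

/-- **`T = Ω^-_{2n}(q)`, `n ≥ 4`.** -/
theorem cpl_ominus (hp : p.Prime) (hf : 1 ≤ f) {n : ℕ} (hn : 4 ≤ n) (hg : Cond g) (hch : HasChar p g)
    (hc : den g * c = num g)
    (hdvd : c ∣ (p ^ f) ^ (n * (n - 1)) * (((p ^ f) ^ n + 1) * prB (p ^ f) (n - 1)))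
    (hs1 : HSN p f (2 * n) g c) (hs2 : HSN p f (2 * (n - 1)) g c) (hs3 : n = 4 → p ^ f = 2 → HSN p f 3 g c) :
    g = .ominus n (p ^ f) := by
  by_cases hex2 : p = 2 ∧ f * (2 * (n - 1)) = 6
  · obtain ⟨rfl, h⟩ := hex2
    have hf1 : f = 1 := by
      by_contra h1
      have : 2 * (2 * (n - 1)) ≤ f * (2 * (n - 1)) := Nat.mul_le_mul_right _ (by omega)
      omega
    subst hf1
    obtain rfl : n = 4 := by omega
    obtain ⟨h7, h2, h3⟩ := eight (by norm_num) (td_ominus hp hf (by norm_num) hdvd) (by norm_num) hg hch hc hs1 (e := 3)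
        (hs3 rfl (by norm_num)) (s := 7) (by norm_num; exact prim_two_three) le_rfl (by norm_num)
    have h7' := dvd_num hc h7
    rcases h3 with rfl | rfl | rfl | rfl | rfl | rfl | rfl
    · rw [num_psl2] at h7'
      norm_num at h7'
    · exfalso
      have h4 : Nat.gcd 4 (4 - 1) * (4 - 1) * c = num (.psl 4 4) := hc
      rw [num_psl4, show Nat.gcd 4 (4 - 1) = 1 by decide] at h4
      have h5 : prB (2 ^ 1) (4 - 1) = 3 * 15 * 63 := by
        rw [prB_eq]
        norm_num [Finset.prod_range_succ]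
      rw [h5] at hdvd
      have h6 := Nat.le_of_dvd (by norm_num) hdvd
      norm_num at h6 h4
      omega
    · exact absurd (show 8 * (8 - 1) / 2 * (2 * 4) ≤ 4 * (4 - 1) * 8 from h2) (by norm_num)
    · rw [num_psp2] at h7'
      norm_num at h7'
    · exact absurd (show 4 ^ 2 * (2 * 4) ≤ 4 * (4 - 1) * (2 * 4) from h2) (by norm_num)
    · exact absurd (show 5 * (5 - 1) * (2 * 4) ≤ 4 * (4 - 1) * (2 * (5 - 1)) from h2) (by norm_num)
    · norm_num
  · exact cp_ominus hp hf hn hex2 hg hch hc hdvd hs1 hs2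

/-- **`T = Ω^+_{2n}(q)`, `n ≥ 5`.** -/
theorem cpl_oplus (hp : p.Prime) (hf : 1 ≤ f) {n : ℕ} (hn : 5 ≤ n) (hg : Cond g)
    (hch : HasChar p g) (hc : den g * c = num g)
    (hdvd : c ∣ (p ^ f) ^ (n * (n - 1)) * (((p ^ f) ^ n - 1) * prB (p ^ f) (n - 1)))
    (hs1 : HSN p f (2 * (n - 1)) g c) (hs2 : HSN p f (2 * (n - 2)) g c)
    (hs3 : n % 2 = 1 → HSN p f n g c) (hs4 : n % 2 = 0 → HSN p f (n - 1) g c) :
    g = .oplus n (p ^ f) ∨ (n % 2 = 0 ∧ (g = .psl (n - 1) (p ^ (2 * f)) ∨ g = .psp (n - 1) (p ^ f) ∨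
      g = .oodd (n - 1) (p ^ f))) := by
  have hex1 : ¬ (p = 2 ∧ f * (2 * (n - 1)) = 6) := by
    rintro ⟨-, h⟩
    have : 1 * (2 * (n - 1)) ≤ f * (2 * (n - 1)) := Nat.mul_le_mul_right _ hf
    omega
  by_cases hex2 : p = 2 ∧ f * (2 * (n - 2)) = 6
  · obtain ⟨rfl, h⟩ := hex2
    have hf1 : f = 1 := by
      by_contra h1
      have : 2 * (2 * (n - 2)) ≤ f * (2 * (n - 2)) := Nat.mul_le_mul_right _ (by omega)
      omega
    subst hf1
    obtain rfl : n = 5 := by omega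
    obtain ⟨s, hs⟩ := exists_prim (q := 2) (e := 5) le_rfl (by norm_num) (by norm_num)
    have hs31 : s = 31 := by
      have h1 := hs.dvd dvd_rfl
      norm_num at h1
      exact (Nat.prime_dvd_prime_iff_eq hs.prime (by norm_num)).1 h1
    subst hs31
    obtain ⟨h7, h2, h3⟩ := eight (by norm_num) (td_oplus hp hf (by norm_num) hdvd) (by norm_num) hg hch hc hs1 (e := 5)
        (hs3 (by norm_num)) (s := 31) (by rwa [pow_one]) (by norm_num) (by norm_num)
    have h7' := dvd_num hc h7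
    rcases h3 with rfl | rfl | rfl | rfl | rfl | rfl | rfl
    · rw [num_psl2] at h7'
      norm_num at h7'
    · rw [num_psl4] at h7'
      norm_num at h7'
    · exact absurd (show 8 * (8 - 1) / 2 * (2 * (5 - 1)) ≤ 5 * (5 - 1) * 8 from h2) (by norm_num)
    · rw [num_psp2] at h7'
      norm_num at h7'
    · rw [num_psp4] at h7'
      norm_num at h7'
    · left; norm_num
    · rw [num_ominus4] at h7'
      norm_num at h7'
  · exact cp_oplus hp hf (by omega) hex1 hex2 hg hch hc hdvd hs1 hs2 hs3 hs4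

/-- **`T = PSU_n(q)`, `n ≥ 4`, not `U4(2)`, `U5(2)`.** -/
theorem cpl_psu (hp : p.Prime) (hf : 1 ≤ f) {n N : ℕ} (hn : 4 ≤ n) (hN : N = if n % 2 = 0 then n - 1 else n)
    (h42 : ¬ (n = 4 ∧ p ^ f = 2)) (h52 : ¬ (n = 5 ∧ p ^ f = 2)) (hg : Cond g)
    (hch : HasChar p g) (hc : den g * c = num g)
    (hdvd : c ∣ (p ^ f) ^ (n * (n - 1) / 2) * prU (p ^ f) n)
    (hs1 : HSN p f (2 * N) g c) (hs2 : 5 ≤ n → n ≠ 6 → HSN p f (2 * (N - 2)) g c)
    (hs3 : n % 4 = 0 → HSN p f n g c) (hs4 : n % 4 = 2 → HSN p f (n / 2) g c) (hs5 : n = 6 → HSN p f 4 g c) :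
    g = .psu n (p ^ f) := by
  by_cases h4 : n = 4
  · subst h4
    refine cp_psu4 hp hf ?_ hg hch hc hdvd (by rw [hN] at hs1; exact hs1) (hs3 (by norm_num))
    rintro ⟨rfl, h⟩
    exact h42 ⟨rfl, by rw [show f = 1 by omega, pow_one]⟩
  by_cases h6 : n = 6
  · subst h6
    exact cp_psu6 hp hf hg hch hc hdvd (by rw [hN] at hs1; exact hs1) (hs5 rfl) (hs4 (by norm_num))
  refine cp_psu hp hf (by omega) hN ?_ hg hch hc hdvd hs1 (hs2 (by omega) h6) hs3 hs4
  rintro ⟨rfl, h⟩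
  have h3 : 3 ≤ N - 2 := by rw [hN]; split_ifs <;> omega
  have h7 : 1 * (2 * (N - 2)) ≤ f * (2 * (N - 2)) := Nat.mul_le_mul_right _ hf
  have h8 : N = 5 := by omega
  rw [h8] at h
  refine h52 ⟨?_, by rw [show f = 1 by omega, pow_one]⟩
  rw [hN] at h8
  split_ifs at h8 <;> omega

end Cfsg.Agent.H358.Cyc
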