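import Mathlib
import Cfsg.Agent.H358.Cyc.CharP4

/-!
# Cyclic primes, same characteristic, group level (helper358, for S3679 and S3561)

`HC p f e M`: all primes `u ∤ f` with `p^f` of order `e` modulo `u` divide `|M|`; `CP p f e T`: these primes are cyclic
primes of `T`; `CP.hc : CP p f e T → ¬ IGap T M → HC p f e M`.

`M` a proper subgroup of the group `T` over `p^f` with a normal non-abelian simple subgroup `S` of Lie type in
characteristic `p`, named `g`, with trivial centraliser: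

* `ig_psl`   : `PSL_n(q)`, `n ≥ 4`, not `L4(2)`, `L6(2)`: exponents `n`, `n - 1`: impossible;
* `ig_psp`   : `PSp_{2n}(q)`, `n ≥ 3`, not `S6(2)`: exponents `2n`, `2(n-1)`, (`n` odd) `n`, (`S8(2)`) `3`:
  `n` even and `g = PΩ^-_{2n}(q)`;
* `ig_oodd`  : `Ω_{2n+1}(q)`, `n ≥ 3`: the same;
* `ig_ominus`: `PΩ^-_{2n}(q)`, `n ≥ 4`: exponents `2n`, `2(n-1)`, (`Ω8^-(2)`) `3`: impossible;
* `ig_oplus` : `PΩ^+_{2n}(q)`, `n ≥ 5`: exponents `2(n-1)`, `2(n-2)`, (`n` odd) `n`, (`n` even) `n-1`: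
  `n` even and `g` in `PSL_{n-1}(q²)`, `PSp_{2n-2}(q)`, `Ω_{2n-1}(q)`;
* `ig_oplus4`: `PΩ^+_8(q)`, `q ≠ 2`: exponents `6`, `3`: `g` in `Ω_7(q)`, `PSp_6(q)`, `G_2(q)`, `PSL_3(q²)`,
  `PSL_2(q³)`, or `q = 4` and `g = Sz(8)`;
* `ig_psu`   : `PSU_n(q)`, `n ≥ 4`, not `U4(2)`, `U5(2)`: impossible.
-/

set_option autoImplicit false

namespace Cfsg.Agent.H358.Cyc

open Cfsg Cfsg.Agent.OrdDiv Cfsg.Agent.H436 Cfsg.Agent.H915.GN Cfsg.Agent.H264.GN Cfsg.Agent.H264.FKS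
open Cfsg.Agent.H899.CG

universe u

variable {p f n : ℕ} {g : Grp}

/-- all primes `u ∤ f` with `p^f` of order `e` modulo `u` divide `|M|` -/
def HC (p f e : ℕ) {T : Type*} [Group T] (M : Subgroup T) : Prop :=
  ∀ u, Prim (p ^ f) e u → ¬ u ∣ f → u ∣ Nat.card M

/-- all primes `u ∤ f` with `p^f` of order `e` modulo `u` are cyclic primes of `T` -/
def CP (p f e : ℕ) (T : Type*) [Group T] : Prop := ∀ u, Prim (p ^ f) e u → ¬ u ∣ f → Cyc T u

theorem CP.hc {e : ℕ} {T : Type*} [Group T] {M : Subgroup T} (h : CP p f e T) (hM : ¬ IGap T M) : HC p f e M :=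
  fun u h1 h2 => dvd_of_not_iGap hM (h u h1 h2)

/-- from the formulation with `NDF` -/
theorem CP.of_ndf {e : ℕ} {T : Type*} [Group T] (hp : p.Prime) (hf : 1 ≤ f)
    (h : ∀ u, Prim (p ^ f) e u → NDF (p ^ f) u → Cyc T u) : CP p f e T :=
  fun u h1 h2 => h u h1 ((ndf_iff hp hf).2 h2)

section

variable {T : Type u} [Group T] [Finite T] {M : Subgroup T}

theorem hsn {e : ℕ} (S : Subgroup M) [S.Normal] [IsSimpleGroup S] (hna : ¬ IsMulCommutative S)
    (hC : Subgroup.centralizer (S : Set M) = ⊥) (hp : p.Prime) (hS : IsNamed g S) (hch : HasChar p g)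
    (he : 3 ≤ e) (h : HC p f e M) : HSN p f e g (Nat.card S) :=
  HSN.of S hna hC hp hS hch he h

theorem ig_psl (hT : IsNamed (.psl n (p ^ f)) T) (hp : p.Prime) (hf : 1 ≤ f) (hn : 4 ≤ n)
    (h42 : ¬ (n = 4 ∧ p ^ f = 2)) (h62 : ¬ (n = 6 ∧ p ^ f = 2)) (h1 : HC p f n M) (h2 : HC p f (n - 1) M)
    (hM : M ≠ ⊤) (S : Subgroup M) [S.Normal] [IsSimpleGroup S] (hna : ¬ IsMulCommutative S)
    (hC : Subgroup.centralizer (S : Set M) = ⊥) (hS : IsNamed g S) (hch : HasChar p g) : False := by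
  rcases cpl_psl hp hf hn h42 h62 hS.cond hch hS.eq (IsNamed.card_dvd hT S)
    (hsn S hna hC hp hS hch (by omega) h1) (hsn S hna hC hp hS hch (by omega) h2) with rfl | ⟨f₁, h3, h4, rfl⟩
  · exact hM (eq_top_of_name hT hS)
  · have hf₁ : 1 ≤ f₁ := by omega
    refine false_of_index hp (par_psl hp hf hT (by omega)) hM (fun hd => ?_) S hna hC
    have h5 := (kd_ominus hp hn hf₁ hS.eq).pp
    have h6 : p ^ (f * (n * (n - 1) / 2)) ∣ Nat.card M := by
      refine Dvd.dvd.trans ?_ (h5.trans (Subgroup.card_subgroup_dvd_card S))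
      refine pow_dvd_pow p ?_
      rw [← h3]
      have := half n
      calc 2 * f₁ * (n * (n - 1) / 2) = f₁ * (2 * (n * (n - 1) / 2)) := by ring
        _ = f₁ * (n * (n - 1)) := by rw [← this]
        _ ≤ _ := le_rfl
    have h7 : p ^ (f * (n * (n - 1) / 2) + 1) ∣ Nat.card T := by
      rw [← M.card_mul_index, pow_succ]
      exact Nat.mul_dvd_mul h6 hd
    have h8 : Nat.card T ∣ glN n (p ^ f) := by
      have : den (.psl n (p ^ f)) * Nat.card T = glN n (p ^ f) := hT.eq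
      rw [← this]
      exact Dvd.intro_left _ rfl
    have := (td_psl hp hf h8).pp h7
    omega

theorem spLikeN (hp : p.Prime) (hf : 1 ≤ f) (hn : 3 ≤ n) (h3 : n % 2 = 1 → HC p f n M) (S : Subgroup M) [S.Normal]
    [IsSimpleGroup S] (hna : ¬ IsMulCommutative S)
    (hC : Subgroup.centralizer (S : Set M) = ⊥) (hS : IsNamed g S) (hch : HasChar p g)
    (h : g = .ominus n (p ^ f) ∨ (n = 3 ∧ g = .psu 4 (p ^ f))) : n % 2 = 0 ∧ g = .ominus n (p ^ f) := by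
  rcases h with rfl | ⟨rfl, rfl⟩
  · refine ⟨?_, rfl⟩
    by_contra h0
    obtain ⟨s, hs1, hs2⟩ := ex_primN (f₁ := f) hp hf hf (by omega) (by omega) hS.eq rfl (by omega)
      (hsn S hna hC hp hS hch (by omega) (h3 (by omega)))
    exact not_dvd_ominus_odd hs1 (by omega) (by omega) hs2
  · exfalso
    obtain ⟨s, hs1, hs2⟩ := ex_primN (f₁ := f) hp hf hf (by omega) (by omega) hS.eq rfl (by omega)
      (hsn S hna hC hp hS hch (by omega) (h3 (by omega)))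
    exact not_dvd_psu_odd hs1 (by norm_num) (by norm_num) (fun i hi1 hi2 hi3 hi4 => by interval_cases i <;> omega) hs2

/-- **`T = PSp_{2n}(q)`, `n ≥ 3`.** -/
theorem ig_psp (hT : IsNamed (.psp n (p ^ f)) T) (hp : p.Prime) (hf : 1 ≤ f) (hn : 3 ≤ n)
    (h32 : ¬ (n = 3 ∧ p ^ f = 2)) (h1 : HC p f (2 * n) M) (h2 : HC p f (2 * (n - 1)) M)
    (h3 : n % 2 = 1 → HC p f n M) (h4 : n = 4 → p ^ f = 2 → HC p f 3 M)
    (hM : M ≠ ⊤) (S : Subgroup M) [S.Normal] [IsSimpleGroup S] (hna : ¬ IsMulCommutative S)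
    (hC : Subgroup.centralizer (S : Set M) = ⊥) (hS : IsNamed g S) (hch : HasChar p g) :
    n % 2 = 0 ∧ g = .ominus n (p ^ f) := by
  rcases cpl_psp hp hf hn h32 hS.cond hch hS.eq (IsNamed.card_dvd hT S)
    (hsn S hna hC hp hS hch (by omega) h1) (hsn S hna hC hp hS hch (by omega) h2)
    (fun h5 h6 => hsn S hna hC hp hS hch (by omega) (h4 h5 h6)) with rfl | rfl | rfl | h | h
  · exact absurd (eq_top_of_name hT hS) hM
  · refine absurd (eq_top_of_card (S := S) ?_) hM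
    have h1 : 2 * Nat.card S = (p ^ f) ^ (n ^ 2) * prB (p ^ f) n := hS.eq
    have h2 : Nat.gcd 2 (p ^ f - 1) * Nat.card T = (p ^ f) ^ (n ^ 2) * prB (p ^ f) n := hT.eq
    have h3 : Nat.gcd 2 (p ^ f - 1) = 2 := Nat.gcd_eq_left (by
      obtain ⟨k, hk⟩ := hS.cond.2.1
      rw [hk]
      exact ⟨k, by omega⟩)
    rw [h3, ← h1] at h2
    exact (Nat.eq_of_mul_eq_mul_left (by norm_num) h2).symm
  · refine (not_psl_psp hp hf hn ?_ hT hS).elim
    rintro ⟨rfl, h⟩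
    have hf1 : f = 1 := by
      by_contra h1
      have : 2 * (2 * n) ≤ f * (2 * n) := Nat.mul_le_mul_right _ (by omega)
      omega
    subst hf1
    exact h32 ⟨by omega, by norm_num⟩
  · exact spLikeN hp hf hn h3 S hna hC hS hch (Or.inl h)
  · exact spLikeN hp hf hn h3 S hna hC hS hch (Or.inr h)

/-- **`T = Ω_{2n+1}(q)`, `n ≥ 3`.** -/
theorem ig_oodd (hT : IsNamed (.oodd n (p ^ f)) T) (hp : p.Prime) (hf : 1 ≤ f) (hn : 3 ≤ n)
    (h1 : HC p f (2 * n) M) (h2 : HC p f (2 * (n - 1)) M) (h3 : n % 2 = 1 → HC p f n M)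
    (hM : M ≠ ⊤) (S : Subgroup M) [S.Normal] [IsSimpleGroup S] (hna : ¬ IsMulCommutative S)
    (hC : Subgroup.centralizer (S : Set M) = ⊥) (hS : IsNamed g S) (hch : HasChar p g) :
    n % 2 = 0 ∧ g = .ominus n (p ^ f) := by
  have hp2 : p ^ f ≠ 2 := by
    intro h
    have := hT.cond.2.1
    rw [h] at this
    exact absurd this (by decide)
  rcases cpl_psp hp hf hn (fun h => hp2 h.2) hS.cond hch hS.eq (IsNamed.card_dvd hT S)
    (hsn S hna hC hp hS hch (by omega) h1) (hsn S hna hC hp hS hch (by omega) h2)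
    (fun _ h6 => absurd h6 hp2) with rfl | rfl | rfl | h | h
  · refine absurd (eq_top_of_card (S := S) ?_) hM
    have h1 : 2 * Nat.card T = (p ^ f) ^ (n ^ 2) * prB (p ^ f) n := hT.eq
    have h2 : Nat.gcd 2 (p ^ f - 1) * Nat.card S = (p ^ f) ^ (n ^ 2) * prB (p ^ f) n := hS.eq
    have h3 : Nat.gcd 2 (p ^ f - 1) = 2 := Nat.gcd_eq_left (by
      obtain ⟨k, hk⟩ := hT.cond.2.1
      rw [hk]
      exact ⟨k, by omega⟩)
    rw [h3, ← h1] at h2
    exact Nat.eq_of_mul_eq_mul_left (by norm_num) h2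
  · exact absurd (eq_top_of_name hT hS) hM
  · exact (not_psl_oodd hp hf hn hT hS).elim
  · exact spLikeN hp hf hn h3 S hna hC hS hch (Or.inl h)
  · exact spLikeN hp hf hn h3 S hna hC hS hch (Or.inr h)

/-- **`T = PΩ^-_{2n}(q)`, `n ≥ 4`.** -/
theorem ig_ominus (hT : IsNamed (.ominus n (p ^ f)) T) (hp : p.Prime) (hf : 1 ≤ f) (hn : 4 ≤ n)
    (h1 : HC p f (2 * n) M) (h2 : HC p f (2 * (n - 1)) M) (h3 : n = 4 → p ^ f = 2 → HC p f 3 M)
    (hM : M ≠ ⊤) (S : Subgroup M) [S.Normal] [IsSimpleGroup S] (hna : ¬ IsMulCommutative S)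
    (hC : Subgroup.centralizer (S : Set M) = ⊥) (hS : IsNamed g S) (hch : HasChar p g) : False := by
  obtain rfl := cpl_ominus hp hf hn hS.cond hch hS.eq (IsNamed.card_dvd hT S)
    (hsn S hna hC hp hS hch (by omega) h1) (hsn S hna hC hp hS hch (by omega) h2)
    (fun h5 h6 => hsn S hna hC hp hS hch (by omega) (h3 h5 h6))
  exact hM (eq_top_of_name hT hS)

/-- **`T = PΩ^+_{2n}(q)`, `n ≥ 5`.** -/
theorem ig_oplus (hT : IsNamed (.oplus n (p ^ f)) T) (hp : p.Prime) (hf : 1 ≤ f) (hn : 5 ≤ n)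
    (h1 : HC p f (2 * (n - 1)) M) (h2 : HC p f (2 * (n - 2)) M) (h3 : n % 2 = 1 → HC p f n M)
    (h4 : n % 2 = 0 → HC p f (n - 1) M)
    (hM : M ≠ ⊤) (S : Subgroup M) [S.Normal] [IsSimpleGroup S] (hna : ¬ IsMulCommutative S)
    (hC : Subgroup.centralizer (S : Set M) = ⊥) (hS : IsNamed g S) (hch : HasChar p g) :
    n % 2 = 0 ∧ (g = .psl (n - 1) (p ^ (2 * f)) ∨ g = .psp (n - 1) (p ^ f) ∨ g = .oodd (n - 1) (p ^ f)) := by
  rcases cpl_oplus hp hf hn hS.cond hch hS.eq (IsNamed.card_dvd hT S)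
    (hsn S hna hC hp hS hch (by omega) h1) (hsn S hna hC hp hS hch (by omega) h2)
    (fun h5 => hsn S hna hC hp hS hch (by omega) (h3 h5)) (fun h5 => hsn S hna hC hp hS hch (by omega) (h4 h5))
    with rfl | h
  · exact absurd (eq_top_of_name hT hS) hM
  · exact h

/-- **`T = PΩ^+_8(q)`, `q ≠ 2`.** -/
theorem ig_oplus4 (hT : IsNamed (.oplus 4 (p ^ f)) T) (hp : p.Prime) (hf : 1 ≤ f) (h42 : p ^ f ≠ 2)
    (h1 : HC p f 6 M) (h2 : HC p f 3 M)
    (hM : M ≠ ⊤) (S : Subgroup M) [S.Normal] [IsSimpleGroup S] (hna : ¬ IsMulCommutative S)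
    (hC : Subgroup.centralizer (S : Set M) = ⊥) (hS : IsNamed g S) (hch : HasChar p g) :
    g = .oodd 3 (p ^ f) ∨ g = .psp 3 (p ^ f) ∨ g = .g2 (p ^ f) ∨ g = .psl 3 (p ^ (2 * f)) ∨
      g = .psl 2 (p ^ (3 * f)) ∨ (p ^ f = 4 ∧ g = .sz 8) := by
  rcases cp_oplus4 hp hf (by
      rintro ⟨rfl, h⟩
      exact h42 (by rw [show f = 1 by omega, pow_one])) hS.cond hch hS.eq (IsNamed.card_dvd hT S)
    (hsn S hna hC hp hS hch (by omega) h1) (hsn S hna hC hp hS hch (by omega) h2) with rfl | h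
  · exact absurd (eq_top_of_name hT hS) hM
  · exact h

/-- **`T = PSU_n(q)`, `n ≥ 4`, not `U4(2)`, `U5(2)`.** -/
theorem ig_psu (hT : IsNamed (.psu n (p ^ f)) T) (hp : p.Prime) (hf : 1 ≤ f) {N : ℕ} (hn : 4 ≤ n)
    (hN : N = if n % 2 = 0 then n - 1 else n) (h42 : ¬ (n = 4 ∧ p ^ f = 2)) (h52 : ¬ (n = 5 ∧ p ^ f = 2))
    (h1 : HC p f (2 * N) M) (h2 : 5 ≤ n → n ≠ 6 → HC p f (2 * (N - 2)) M) (h3 : n % 4 = 0 → HC p f n M)
    (h4 : n % 4 = 2 → HC p f (n / 2) M) (h5 : n = 6 → HC p f 4 M)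
    (hM : M ≠ ⊤) (S : Subgroup M) [S.Normal] [IsSimpleGroup S] (hna : ¬ IsMulCommutative S)
    (hC : Subgroup.centralizer (S : Set M) = ⊥) (hS : IsNamed g S) (hch : HasChar p g) : False := by
  have hN3 : 3 ≤ N := by rw [hN]; split_ifs <;> omega
  obtain rfl := cpl_psu hp hf hn hN h42 h52 hS.cond hch hS.eq (IsNamed.card_dvd hT S)
    (hsn S hna hC hp hS hch (by omega) h1) (fun h6 h7 => hsn S hna hC hp hS hch (by
      have : 5 ≤ N := by rw [hN]; split_ifs <;> omega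
      omega) (h2 h6 h7))
    (fun h6 => hsn S hna hC hp hS hch (by omega) (h3 h6)) (fun h6 => hsn S hna hC hp hS hch (by omega) (h4 h6))
    (fun h6 => hsn S hna hC hp hS hch (by omega) (h5 h6))
  exact hM (eq_top_of_name hT hS)

end

end Cfsg.Agent.H358.Cyc
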