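import Mathlib
import Cfsg.Agent.H358.Cyc.Rows

/-!
# Unitary index of a primitive prime (helper358, for S3679 and S3561)

The order `m` of `-q` modulo `u` from the order `e` of `q`: `e = 2m` (`m` odd), `e = m` (`4 ∣ m`), `e = m/2`
(`m ≡ 2 mod 4`).
-/

set_option autoImplicit false

namespace Cfsg.Agent.H358.Cyc

open Cfsg.Agent.OrdDiv Cfsg.Agent.H436 Cfsg.Agent.H264.GN Cfsg.Agent.H264.FKS

variable {q e m u : ℕ}

theorem prim_cast_pow (h : Prim q e u) (k : ℕ) : ((q : ℕ) : ZMod u) ^ k = 1 ↔ e ∣ k := by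
  rw [← orderOf_dvd_iff_pow_eq_one, orderOf_of_prim h]

theorem neg_one_ne (h : Prim q e u) (hu : u ≠ 2) : (-1 : ZMod u) ≠ 1 := by
  have : Fact u.Prime := ⟨h.prime⟩
  have : Fact (2 < u) := ⟨by have := h.prime.two_le; omega⟩
  exact ZMod.neg_one_ne_one

theorem half_pow (h : Prim q (2 * e) u) (he : 1 ≤ e) : ((q : ℕ) : ZMod u) ^ e = -1 := by
  have : Fact u.Prime := ⟨h.prime⟩
  have h1 : (((q : ℕ) : ZMod u) ^ e) ^ 2 = 1 := by
    rw [← pow_mul, prim_cast_pow h, mul_comm]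
  rcases sq_eq_one h1 with h2 | h2
  · exfalso
    rw [prim_cast_pow h] at h2
    have := Nat.le_of_dvd (by omega) h2
    omega
  · exact h2
where

  sq_eq_one {K : Type} [Field K] {x : K} (h : x ^ 2 = 1) : x = 1 ∨ x = -1 := by
    have h1 : (x - 1) * (x + 1) = 0 := by ring_nf; rw [h]; ring
    rcases mul_eq_zero.1 h1 with h2 | h2
    · exact Or.inl (sub_eq_zero.1 h2)
    · exact Or.inr (eq_neg_of_add_eq_zero_left h2)

theorem orderOf_neg_odd (h : Prim q (2 * m) u) (hm : m % 2 = 1) : orderOf (-((q : ℕ) : ZMod u)) = m := by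
  apply Nat.dvd_antisymm
  · rw [orderOf_dvd_iff_pow_eq_one, Odd.neg_pow (Nat.odd_iff.2 hm), half_pow h (by omega), neg_neg]
  · have h1 : (-((q : ℕ) : ZMod u)) ^ orderOf (-((q : ℕ) : ZMod u)) = 1 := pow_orderOf_eq_one _
    have h2 : ((q : ℕ) : ZMod u) ^ (2 * orderOf (-((q : ℕ) : ZMod u))) = 1 := by
      rw [pow_mul, ← neg_sq, ← pow_mul, mul_comm, pow_mul, h1, one_pow]
    rw [prim_cast_pow h] at h2
    exact Nat.dvd_of_mul_dvd_mul_left (by norm_num) h2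

theorem orderOf_neg_four (h : Prim q m u) (hm : m % 4 = 0) (hm0 : 1 ≤ m) : orderOf (-((q : ℕ) : ZMod u)) = m := by
  obtain ⟨k, rfl⟩ : ∃ k, m = 2 * (2 * k) := ⟨m / 4, by omega⟩
  have hu : u ≠ 2 := by
    have := lt_of_prim h
    omega
  apply Nat.dvd_antisymm
  · rw [orderOf_dvd_iff_pow_eq_one, Even.neg_pow (even_two_mul _), prim_cast_pow h]
  · have h1 : (-((q : ℕ) : ZMod u)) ^ orderOf (-((q : ℕ) : ZMod u)) = 1 := pow_orderOf_eq_one _
    have h2 : ((q : ℕ) : ZMod u) ^ (2 * orderOf (-((q : ℕ) : ZMod u))) = 1 := by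
      rw [pow_mul, ← neg_sq, ← pow_mul, mul_comm, pow_mul, h1, one_pow]
    rw [prim_cast_pow h] at h2
    obtain ⟨j, hj⟩ := Nat.dvd_of_mul_dvd_mul_left (by norm_num) h2
    rw [hj] at h1 ⊢
    rcases Nat.even_or_odd j with ⟨i, rfl⟩ | hj'
    · exact ⟨i, by ring⟩
    · exfalso
      rw [pow_mul, Even.neg_pow (even_two_mul _), half_pow h (by omega), Odd.neg_one_pow hj'] at h1
      exact neg_one_ne h hu h1

theorem orderOf_neg_two (h : Prim q (m / 2) u) (hm : m % 4 = 2) (hu : u ≠ 2) :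
    orderOf (-((q : ℕ) : ZMod u)) = m := by
  obtain ⟨k, rfl⟩ : ∃ k, m = 2 * k := ⟨m / 2, by omega⟩
  have hk : k % 2 = 1 := by omega
  rw [Nat.mul_div_cancel_left _ (by norm_num)] at h
  apply Nat.dvd_antisymm
  · rw [orderOf_dvd_iff_pow_eq_one, Even.neg_pow (even_two_mul _), prim_cast_pow h]
    exact Dvd.intro_left _ rfl
  · have h1 : (-((q : ℕ) : ZMod u)) ^ orderOf (-((q : ℕ) : ZMod u)) = 1 := pow_orderOf_eq_one _
    have h2 : ((q : ℕ) : ZMod u) ^ (2 * orderOf (-((q : ℕ) : ZMod u))) = 1 := by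
      rw [pow_mul, ← neg_sq, ← pow_mul, mul_comm, pow_mul, h1, one_pow]
    rw [prim_cast_pow h] at h2
    obtain ⟨j, hj⟩ := dvd_of_two hk h2
    rw [hj] at h1 ⊢
    rcases Nat.even_or_odd j with ⟨i, rfl⟩ | hj'
    · exact ⟨i, by ring⟩
    · exfalso
      have h3 : ((q : ℕ) : ZMod u) ^ k = 1 := (prim_cast_pow h k).2 dvd_rfl
      rw [pow_mul, Odd.neg_pow (Nat.odd_iff.2 hk), h3, Odd.neg_one_pow hj'] at h1
      exact neg_one_ne h hu h1

end Cfsg.Agent.H358.Cyc
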