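import Cfsg.Agent.H884.CgOrth
import Cfsg.Agent.H884.ElFin
import Cfsg.Agent.H358.Cyc.Rows

/-!
# `PSL_{n-1}(q²)` is not a subgroup of `PΩ^+_{2n}(q)`, `n ≥ 4` even (helper358, for S3679 and S3561)

The primes `r`, `s` with `q` of order `n - 1` (odd), `2 (n - 1)` are adjacent in the prime graph of `PSL_{n-1}(q²)`, not
in the prime graph of `PΩ^+_{2n}(q)`.
-/

set_option autoImplicit false

namespace Cfsg.Agent.H358.Cyc

open Module QuadraticMap Cfsg Cfsg.Agent.LieClassical.OrthCore Cfsg.Agent.H955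
open Cfsg.Agent.H951 (fx cm Inv)
open Cfsg.Agent.H884.El Cfsg.Agent.H884.Cg Cfsg.Agent.LieClassical Cfsg.Agent.LieClassical.OmegaReindex
open Cfsg.Agent.OrdDiv Cfsg.Agent.H436 Cfsg.Agent.H915.GN
open scoped MatrixGroups Matrix

universe u v

section Abs

variable {F : Type u} [Field F] [Fintype F] {V : Type v} [AddCommGroup V] [Module F V] [FiniteDimensional F V]
  {Q : QuadraticForm F V} {x y : Module.End F V} {r s e : ℕ}

/-- commuting isometries of prime orders `s`, `r`, with `q` of order `2e` modulo `s`, `e` modulo `r`, `e` odd, in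
dimension less than `4 e`: one of them is trivial -/
theorem not_adj_lin (hx : Iso Q x s) (hy : Iso Q y r) (hQ : Nondeg Q) (hx1 : x ≠ 1) (hy1 : y ≠ 1)
    (hs : PP (Nat.card F) (2 * e) s) (hr : PP (Nat.card F) e r) (he : Odd e) (hn : finrank F V < 4 * e)
    (hxy : Commute x y) : False := by
  obtain ⟨hcx, hPx⟩ := hx.even_case hQ hx1 hs (even_two_mul e) (by omega)
  obtain ⟨hcy, hPy, -⟩ := hy.odd_case hQ hy1 hr he hn
  have hinv : Inv x (cm y) := inv_cm_of_commute hxy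
  have h1 := hx.dvd hs hinv
  have h2 : finrank F ↥(cm y ⊓ cm x) ≤ finrank F (cm y) := Submodule.finrank_mono inf_le_left
  have h2' : finrank F ↥(cm y ⊓ cm x) ≤ finrank F (cm x) := Submodule.finrank_mono inf_le_right
  have he0 : 0 < e := he.pos
  rcases Nat.eq_zero_or_pos (finrank F ↥(cm y ⊓ cm x)) with h0 | h0
  · have h4 : cm y ⊓ cm x = ⊥ := Submodule.finrank_eq_zero.1 h0
    have h5 := H951.inf_fx_sup_inf_cm hx.ne0 hx.pow hinv
    rw [h4, sup_bot_eq] at h5
    have h6 : cm y ≤ fx x := by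
      rw [← h5]
      exact inf_le_right
    have h7 := Submodule.finrank_mono h6
    have h8 := hx.finrank_add
    omega
  · have h3 := Nat.le_of_dvd h0 h1
    have h4 : cm y ⊓ cm x = cm y := Submodule.eq_of_le_of_finrank_eq inf_le_left (by omega)
    have h5 : cm y ⊓ cm x = cm x := Submodule.eq_of_le_of_finrank_eq inf_le_right (by omega)
    rw [← h5, h4] at hPx
    exact hPx hPy

end Abs

section Orth

variable {ι : Type} [Fintype ι] [DecidableEq ι] {F : Type u} [Field F] [Fintype F] {Q : QuadraticForm F (ι → F)}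
  {r s e : ℕ}

/-- no element of order `r s` in `PΩ(Q)` -/
theorem not_adj_orth (hD : H390.Lift.Data Q) (hQ : Nondeg Q) (hs : PP (Nat.card F) (2 * e) s)
    (hr : PP (Nat.card F) e r) (he : Odd e) (he2 : 2 ≤ e) (hn : Fintype.card ι < 4 * e) :
    r * s ∉ Set.range (orderOf : POmega F (⇑Q) → ℕ) := by
  rintro ⟨t, ht⟩
  have hltr := hr.lt (by omega)
  have hlts := hs.lt (by omega)
  have hrs : r ≠ s := hr.ne_of_ne hs (by omega)
  have hodd : Odd (r * s) := (hr.odd he2).mul (hs.odd (by omega))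
  obtain ⟨w, rfl⟩ := QuotientGroup.mk'_surjective _ t
  have htm : QuotientGroup.mk' (Subgroup.center (Omega F (⇑Q))) w ^ (r * s) = 1 := by
    rw [← ht]; exact pow_orderOf_eq_one _
  have hw : (w ^ (r * s)) ^ 2 = 1 := by
    have h1 : w ^ (r * s) ∈ Subgroup.center (Omega F (⇑Q)) := by
      rw [← QuotientGroup.eq_one_iff]
      exact htm
    exact Subtype.ext (congrArg Subtype.val (H390.Lift.center_sq hD _ h1))
  -- the lift of order `r s`
  obtain ⟨k, hk⟩ := hodd
  set g := w ^ (r * s + 1) with hg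
  have hgm : g ^ (r * s) = 1 := by
    rw [hg, ← pow_mul, mul_comm, pow_mul, hk, show 2 * k + 1 + 1 = 2 * (k + 1) by ring, ← hk, pow_mul, hw, one_pow]
  have hπ : QuotientGroup.mk' (Subgroup.center (Omega F (⇑Q))) g = QuotientGroup.mk' (Subgroup.center (Omega F (⇑Q))) w := by
    rw [hg, map_pow, pow_succ, htm, one_mul]
  have hord : orderOf (QuotientGroup.mk' (Subgroup.center (Omega F (⇑Q))) g) = r * s := by rw [hπ, ht]
  have hne : ∀ m, 0 < m → m < r * s → g ^ m ≠ 1 := by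
    intro m hm0 hm h
    have h1 : QuotientGroup.mk' (Subgroup.center (Omega F (⇑Q))) g ^ m = 1 := by rw [← map_pow, h, map_one]
    have h2 := orderOf_dvd_of_pow_eq_one h1
    rw [hord] at h2
    have := Nat.le_of_dvd hm0 h2
    omega
  have hxr : (g ^ r) ^ s = 1 := by rw [← pow_mul, hgm]
  have hys : (g ^ s) ^ r = 1 := by rw [← pow_mul, mul_comm, hgm]
  have hiso : ∀ (z : Omega F (⇑Q)) (v : ι → F), Q (rep (⇑Q) z v) = Q v := fun z v =>
    lin_iso le_rfl z.1.2 v
  refine not_adj_lin (Q := Q) (x := rep (⇑Q) (g ^ r)) (y := rep (⇑Q) (g ^ s)) (r := r) (s := s) (e := e)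
    (Iso.mk' hs (by omega) (by rw [← map_pow, hxr, map_one]) (hiso _))
    (Iso.mk' hr he2 (by rw [← map_pow, hys, map_one]) (hiso _)) hQ ?_ ?_ hs hr he (by rw [finrank_V]; exact hn) ?_
  · intro h
    exact hne r (by omega) (by nlinarith) (rep_injective _ (by rw [h, map_one]))
  · intro h
    exact hne s (by omega) (by nlinarith) (rep_injective _ (by rw [h, map_one]))
  · show rep (⇑Q) (g ^ r) * rep (⇑Q) (g ^ s) = rep (⇑Q) (g ^ s) * rep (⇑Q) (g ^ r)
    rw [← map_mul, ← map_mul, ← pow_add, ← pow_add, add_comm]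

end Orth

section named

variable {p f n : ℕ}

theorem pp_of_prim {q e r : ℕ} (h : Prim q e r) : PP q e r := ⟨h.prime, H264.FKS.orderOf_of_prim h⟩

/-- `PSL_{n-1}(q²)` is not a subgroup of `PΩ^+_{2n}(q)`, `n ≥ 4` even, `(n, q) ≠ (4, 2)`. -/
theorem not_psl_oplus {T : Type*} [Group T] (hp : p.Prime) (hf : 1 ≤ f) (hn : 4 ≤ n) (hne : n % 2 = 0)
    (h42 : ¬ (n = 4 ∧ p ^ f = 2)) (hT : IsNamed (.oplus n (p ^ f)) T) {R : Subgroup T} {S : Subgroup R}
    (hS : IsNamed (.psl (n - 1) (p ^ (2 * f))) S) : False := by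
  obtain ⟨F, _, _, hF, ⟨e⟩⟩ := hT.real
  obtain ⟨F', _, _, hF', ⟨e'⟩⟩ := hS.real
  have hfn : 1 * (n - 1) ≤ f * (n - 1) := Nat.mul_le_mul_right _ hf
  -- the primes
  obtain ⟨r, hr⟩ : ∃ r, Prim (p ^ f) (n - 1) r := by
    by_cases h6 : p = 2 ∧ f * (n - 1) = 6
    · obtain ⟨rfl, h6⟩ := h6
      have hf2 : f = 2 := by
        have h1 : f ≤ 2 := by
          by_contra h
          have : 3 * (n - 1) ≤ f * (n - 1) := Nat.mul_le_mul_right _ (by omega)
          omega
        have h2 : f ≠ 1 := by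
          rintro rfl
          omega
        omega
      subst hf2
      obtain rfl : n = 4 := by omega
      exact ⟨7, by norm_num; exact H264.FKS.prim_four_three⟩
    · obtain ⟨r, hr⟩ := exists_prim (q := p) (e := f * (n - 1)) hp.two_le (by omega) h6
      exact ⟨r, H264.GN.prim_pow hf hr⟩
  obtain ⟨s, hs⟩ : ∃ s, Prim (p ^ f) (2 * (n - 1)) s := by
    have h2n : f * (2 * (n - 1)) = 2 * (f * (n - 1)) := by ring
    obtain ⟨s, hs⟩ := exists_prim (q := p) (e := f * (2 * (n - 1))) hp.two_le (by omega) (by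
      rintro ⟨rfl, h⟩
      have h3 : f * (n - 1) = 3 := by omega
      have hf1 : f = 1 := by
        by_contra h1
        have : 2 * (n - 1) ≤ f * (n - 1) := Nat.mul_le_mul_right _ (by omega)
        omega
      subst hf1
      exact h42 ⟨by omega, by norm_num⟩)
    exact ⟨s, H264.GN.prim_pow hf hs⟩
  obtain ⟨x, -, hx⟩ := H264.FKS.mem_range_of_le e' (H264.FKS.psl_adj hp hf hF' (by omega) le_rfl hr hs)
  have hq : Nat.card F = p ^ f := by rw [Nat.card_eq_fintype_card, hF]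
  have h1 := not_adj_orth (Q := quadPlus n F) (data_plus hn) (nondeg_iff.2 quadPlus_nondegenerate)
    (by rw [hq]; exact pp_of_prim hs) (by rw [hq]; exact pp_of_prim hr) (Nat.odd_iff.2 (by omega)) (by omega)
    (by rw [card_plus]; omega)
  rw [coe_quadPlus] at h1
  refine h1 ⟨e x, ?_⟩
  rw [← hx]
  exact orderOf_injective e.toMonoidHom e.injective x

section

variable {g : Grp} {T : Type u} [Group T] [Finite T] {M : Subgroup T}

open Cfsg.Agent.H264.FKS in
/-- **`T = PΩ^+_{2n}(q)`, `n ≥ 5`.** -/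
theorem ig_oplus' (hT : IsNamed (.oplus n (p ^ f)) T) (hp : p.Prime) (hf : 1 ≤ f) (hn : 5 ≤ n)
    (h1 : HC p f (2 * (n - 1)) M) (h2 : HC p f (2 * (n - 2)) M) (h3 : n % 2 = 1 → HC p f n M)
    (h4 : n % 2 = 0 → HC p f (n - 1) M)
    (hM : M ≠ ⊤) (S : Subgroup M) [S.Normal] [IsSimpleGroup S] (hna : ¬ IsMulCommutative S)
    (hC : Subgroup.centralizer (S : Set M) = ⊥) (hS : IsNamed g S) (hch : HasChar p g) :
    n % 2 = 0 ∧ (g = .psp (n - 1) (p ^ f) ∨ g = .oodd (n - 1) (p ^ f)) := by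
  obtain ⟨h5, rfl | h | h⟩ := ig_oplus hT hp hf hn h1 h2 h3 h4 hM S hna hC hS hch
  · exact (not_psl_oplus hp hf (by omega) h5 (by omega) hT hS).elim
  · exact ⟨h5, Or.inl h⟩
  · exact ⟨h5, Or.inr h⟩

/-- **`T = PΩ^+_8(q)`, `q ≠ 2`.** -/
theorem ig_oplus4' (hT : IsNamed (.oplus 4 (p ^ f)) T) (hp : p.Prime) (hf : 1 ≤ f) (h42 : p ^ f ≠ 2)
    (h1 : HC p f 6 M) (h2 : HC p f 3 M)
    (hM : M ≠ ⊤) (S : Subgroup M) [S.Normal] [IsSimpleGroup S] (hna : ¬ IsMulCommutative S)
    (hC : Subgroup.centralizer (S : Set M) = ⊥) (hS : IsNamed g S) (hch : HasChar p g) :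
    g = .oodd 3 (p ^ f) ∨ g = .psp 3 (p ^ f) ∨ g = .g2 (p ^ f) ∨
      g = .psl 2 (p ^ (3 * f)) ∨ (p ^ f = 4 ∧ g = .sz 8) := by
  rcases ig_oplus4 hT hp hf h42 h1 h2 hM S hna hC hS hch with h | h | h | rfl | h | h
  · exact Or.inl h
  · exact Or.inr (Or.inl h)
  · exact Or.inr (Or.inr (Or.inl h))
  · exact (not_psl_oplus hp hf le_rfl (by norm_num) (fun h => h42 h.2) hT hS).elim
  · exact Or.inr (Or.inr (Or.inr (Or.inl h)))
  · exact Or.inr (Or.inr (Or.inr (Or.inr h)))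

end

end named

end Cfsg.Agent.H358.Cyc
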